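import Mathlib
import Cfsg.Agent.MinSimple.Geo

/-!
# Core theorem T, case (Omega): the abstract configurations

Source: helper12's proof that (Omega) is empty (team board, P21, row 4061).  Everywhere `cj g X = g X g⁻¹`.

* `Om V U z`: the setting (O0)-(O2) in `G`: `U = ∏ V i` (four-groups, at least two), `M = N_G(U)`, `C = C_G(z)`.
* `Cfg0`, `Cfg V₁ V₂ U H Q N A z`: the situation reached after Step 3, 4, inside `Γ = C₁` (`H = N_Γ(U)` is maximal in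
  `Γ`, `Q` its core, `N / Q` a self-centralising abelian normal subgroup of odd order of `Γ / Q`), `A` = the elementary abelian
  group `W_d` of the other side, which centralises the base block `U`.
* `Wt Q N A y`: `y ∈ N` is a weight vector of `A` on `N / Q` with nontrivial character.
* `Lin V₁ V₂ U H Q N A z E E'`: the output of Step 5: the two lines of `U` and the modules
  `W / W₁`, `W₁ / ⟨z⟩`, `W = wd U`, `W₁ = wd (E ⊔ E')`.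
-/

set_option autoImplicit false

namespace Cfsg.Agent.MinSimple.Omega.Defs

open Subgroup Cfsg.Agent.MinSimple.Geo

section G

variable {G : Type*} [Group G] {ι : Type*}

/-- the product of the `V j`, `j ≠ i` -/
def co (V : ι → Subgroup G) (i : ι) : Subgroup G := ⨆ j : {j : ι // j ≠ i}, V j

/-- The setting of case (Omega): `M = N_G(U)`, `C = C_G(z)`. -/
structure Om (V : ι → Subgroup G) (U : Subgroup G) (z : G) : Prop where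
  two : ∃ i j : ι, i ≠ j
  card : ∀ i, Nat.card (V i) = 4
  indep : iSupIndep V
  U_eq : ⨆ i, V i = U
  comm : ∀ a ∈ U, ∀ b ∈ U, a * b = b * a
  sq : ∀ a ∈ U, a * a = 1
  perm : ∀ m ∈ normalizer (U : Set G), ∀ i, ∃ j, cj m (V i) = V j
  z_mem : z ∈ U
  /-- `z` is full -/
  z_full : ∀ i, z ∉ co V i
  not_le : ¬ centralizer ({z} : Set G) ≤ normalizer (U : Set G)
  /-- (O1) -/
  cent_le : ∀ i, ∀ u ∈ co V i, u ≠ 1 → centralizer ({u} : Set G) ≤ normalizer (U : Set G)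
  cent_V : ∀ i, ∀ v ∈ V i, v ≠ 1 → centralizer ({v} : Set G) ≤ normalizer (V i : Set G)
  TI : ∀ i j g, V i ⊓ cj g (V j) ≠ ⊥ → V i = cj g (V j)
  inter : ∀ g, g ∉ normalizer (U : Set G) → ∀ i, co V i ⊓ cj g U = ⊥
  /-- Step 0: `⟨U^C⟩` is abelian -/
  uc : ∀ c ∈ centralizer ({z} : Set G), ∀ a ∈ U, ∀ b ∈ cj c U, a * b = b * a
  /-- a Sylow 2-subgroup of `C` lies in `M` -/
  syl : ∃ T : Subgroup G, T ≤ normalizer (U : Set G) ∧ T ≤ centralizer ({z} : Set G) ∧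
    ¬ 2 ∣ T.relIndex (centralizer ({z} : Set G))
  solv : Group.IsSolvable (centralizer ({z} : Set G))
  /-- no nontrivial 2-group is normalised by `M` and by a subgroup of `C` not contained in `M` -/
  core : ∀ R : Subgroup G, IsPGroup 2 R → normalizer (U : Set G) ≤ normalizer (R : Set G) →
    ∀ X : Subgroup G, X ≤ centralizer ({z} : Set G) → ¬ X ≤ normalizer (U : Set G) →
      X ≤ normalizer (R : Set G) → R = ⊥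
  t : ∀ i, ∃ t ∈ normalizer (U : Set G), t ∈ centralizer ({z} : Set G) ∧
    (∃ v ∈ V i, t * v ≠ v * t) ∧ ∀ j, j ≠ i → ∀ v ∈ V j, t * v = v * t

end G

section Gam

variable {Γ : Type*} [Group Γ]

/-- the subgroup generated by all conjugates of `U` -/
def wd (U : Subgroup Γ) : Subgroup Γ := ⨆ g : Γ, cj g U

/-- The configuration after Steps 1, 2, 3, `k = 2`, inside `Γ = C₁` (`z` is central in `Γ`). -/
structure Cfg0 (V₁ V₂ U H Q N A : Subgroup Γ) (z : Γ) : Prop where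
  U_eq : V₁ ⊔ V₂ = U
  card₁ : Nat.card V₁ = 4
  card₂ : Nat.card V₂ = 4
  disj : V₁ ⊓ V₂ = ⊥
  sq : ∀ a ∈ U, a * a = 1
  comm : ∀ g : Γ, ∀ a ∈ U, ∀ b ∈ cj g U, a * b = b * a
  z_mem : z ∈ U
  z_cent : ∀ g : Γ, g * z = z * g
  z_not₁ : z ∉ V₁
  z_not₂ : z ∉ V₂
  H_eq : normalizer (U : Set Γ) = H
  perm : ∀ h ∈ H, (cj h V₁ = V₁ ∧ cj h V₂ = V₂) ∨ (cj h V₁ = V₂ ∧ cj h V₂ = V₁)
  t : ∃ t ∈ H, (∃ v ∈ V₁, t * v ≠ v * t) ∧ ∀ v ∈ V₂, t * v = v * t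
  cent₁ : ∀ v ∈ V₁, v ≠ 1 → centralizer ({v} : Set Γ) ≤ H
  cent₂ : ∀ v ∈ V₂, v ≠ 1 → centralizer ({v} : Set Γ) ≤ H
  inter : ∀ g, g ∉ H → V₁ ⊓ cj g U = ⊥ ∧ V₂ ⊓ cj g U = ⊥
  -- Step 1
  Qn : Q.Normal
  Nn : N.Normal
  QN : Q ≤ N
  NH : N ⊓ H = Q
  mul : ∀ g : Γ, ∃ n ∈ N, ∃ h ∈ H, g = n * h
  N_comm : ∀ a ∈ N, ∀ b ∈ N, a * b * a⁻¹ * b⁻¹ ∈ Q
  N_odd : Odd (Q.relIndex N)
  max : ∀ X : Subgroup Γ, H ≤ X → X = H ∨ X = ⊤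
  ne_top : H ≠ ⊤
  faith : ∀ h ∈ H, (∀ n ∈ N, h * n * h⁻¹ * n⁻¹ ∈ Q) → h ∈ Q
  -- Steps 2, 3
  A_comm : ∀ a ∈ A, ∀ b ∈ A, a * b = b * a
  A_sq : ∀ a ∈ A, a * a = 1
  A_U : ∀ a ∈ A, ∀ u ∈ U, a * u = u * a
  A_norm : ∀ a ∈ A, ∀ w ∈ wd U, a * w * a⁻¹ * w⁻¹ ∈ A
  A_ne : ∃ g : Γ, ¬ A ≤ centralizer ((cj g U : Subgroup Γ) : Set Γ)
  A_V₁ : ∀ g : Γ, ∀ a ∈ A, cj a (cj g V₁) = cj g V₁ → ∀ v ∈ cj g V₁, a * v = v * a
  A_V₂ : ∀ g : Γ, ∀ a ∈ A, cj a (cj g V₂) = cj g V₂ → ∀ v ∈ cj g V₂, a * v = v * a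
  A_fix : ∀ g : Γ, A ≤ normalizer ((cj g U : Subgroup Γ) : Set Γ) →
    A ≤ centralizer ((cj g U : Subgroup Γ) : Set Γ)
  A_four : ∀ g : Γ, ¬ A ≤ centralizer ((cj g U : Subgroup Γ) : Set Γ) →
    4 ≤ (centralizer ((cj g U : Subgroup Γ) : Set Γ)).relIndex A

/-- The configuration after Step 4. -/
structure Cfg (V₁ V₂ U H Q N A : Subgroup Γ) (z : Γ) : Prop extends Cfg0 V₁ V₂ U H Q N A z where
  /-- the four-group `V₁^μ`, `μ` special: `|W : C_W(v)| = 4`, `C_W(v) = C_W(F)` for `v ∈ F#` -/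
  spec : ∃ F ≤ A, Nat.card F = 4 ∧ ∀ v ∈ F, v ≠ 1 →
    (∀ w ∈ wd U, v * w = w * v → ∀ f ∈ F, f * w = w * f) ∧
      (centralizer ({v} : Set Γ)).relIndex (wd U) = 4

/-- `y ∈ N` spans a nontrivial weight space of `A` on `N / Q`. -/
structure Wt (Q N A : Subgroup Γ) (y : Γ) : Prop where
  mem : y ∈ N
  cases : ∀ a ∈ A, a * y * a⁻¹ * y⁻¹ ∈ Q ∨ a * y * a⁻¹ * y ∈ Q
  nontriv : ∃ a ∈ A, a * y * a⁻¹ * y⁻¹ ∉ Q

/-- The output of Step 5: the two lines `E`, `E'` of `U`, and the modules `W / W₁`, `W₁ / ⟨z⟩`. -/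
structure Lin (V₁ V₂ U H Q N A : Subgroup Γ) (z : Γ) (E E' : Subgroup Γ) : Prop where
  le : E ≤ U
  le' : E' ≤ U
  card : Nat.card E = 4
  card' : Nat.card E' = 4
  z_mem : z ∈ E
  z_mem' : z ∈ E'
  disj : E ⊓ V₁ = ⊥ ∧ E ⊓ V₂ = ⊥
  disj' : E' ⊓ V₁ = ⊥ ∧ E' ⊓ V₂ = ⊥
  ne : E ≠ E'
  /-- every line is `E` or `E'` -/
  all : ∀ F ≤ U, Nat.card F = 4 → z ∈ F → F ⊓ V₁ = ⊥ → F ⊓ V₂ = ⊥ → F = E ∨ F = E'
  /-- `E ⊔ E'` contains a non-full element -/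
  sup : ∃ v ∈ V₁, v ≠ 1 ∧ v ∈ E ⊔ E'
  norm : ∀ q ∈ Q, cj q E = E ∧ cj q E' = E'
  perm : ∀ h ∈ H, (cj h E = E ∧ cj h E' = E') ∨ (cj h E = E' ∧ cj h E' = E)
  swap : ∃ t ∈ H, cj t E = E' ∧ cj t E' = E
  /-- the line `C_{U^y}(A)` for a weight vector `y` -/
  wt : ∀ y, Wt Q N A y →
    (cj y U ⊓ centralizer (A : Set Γ) = E ∧ cj y E = E) ∨
      (cj y U ⊓ centralizer (A : Set Γ) = E' ∧ cj y E' = E')
  /-- `U^g ∩ W₁ = (E ⊔ E')^g` -/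
  inf_W₁ : ∀ g : Γ, cj g U ⊓ wd (E ⊔ E') = cj g (E ⊔ E')
  Q_W : ∀ q ∈ Q, ∀ w ∈ wd U, q * w * q⁻¹ * w⁻¹ ∈ wd (E ⊔ E')
  Q_W₁ : ∀ q ∈ Q, ∀ w ∈ wd (E ⊔ E'), q * w * q⁻¹ * w⁻¹ ∈ zpowers z
  /-- `N / Q` is faithful on `W / W₁` -/
  faith₁ : ∀ n ∈ N, (∀ w ∈ wd U, n * w * n⁻¹ * w⁻¹ ∈ wd (E ⊔ E')) → n ∈ Q
  /-- `N / Q` is faithful on `W₁ / ⟨z⟩` -/
  faith₂ : ∀ n ∈ N, (∀ w ∈ wd (E ⊔ E'), n * w * n⁻¹ * w⁻¹ ∈ zpowers z) → n ∈ Q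

end Gam

end Cfsg.Agent.MinSimple.Omega.Defs
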