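import Cfsg.Agent.MinSimple.ReduceDefs
import Cfsg.Agent.MinSimple.SamePt
import Cfsg.Agent.MinSimple.Omega.Defs

/-!
# Case (Omega): from the reduction to the abstract setting

`main : Amb G → Omega S V x U z → U ≤ O₂(C_G(z)) → Om V U z`.
-/

set_option autoImplicit false

namespace Cfsg.Agent.MinSimple.Omega.Derive

open Subgroup Cfsg Cfsg.Agent.ZN Cfsg.Agent.MinSimple
open Cfsg.Agent.MinSimple.DBlkApi
open Cfsg.Agent.MinSimple.Geo (cj mem_cj cj_cj cj_one cj_inv_cj cj_cj_inv cj_mono cj_le_iff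
  cj_le_cj mem_normalizer_iff_cj cj_inf cj_normalizer cj_centralizer_singleton)
open Cfsg.Agent.MinSimple.Omega.Defs

universe u

variable {G : Type u} [Group G] {S : Sylow 2 G} {n : ℕ} {V : Fin n → Subgroup G}
  {x : Fin n → G} {U : Subgroup G} {z : G}

/-! ### Elementary consequences -/

theorem V_le (h : Omega S V x U z) (i : Fin n) : V i ≤ U := by
  rw [h.U_eq]; exact le_iSup V i

theorem xV (h : Omega S V x U z) (i : Fin n) : x i ∈ V i := by
  obtain ⟨L, k, -, hv, hp, -⟩ := h.blk i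
  rw [← hv]; exact hp.1

theorem x1 (h : Omega S V x U z) (i : Fin n) : x i ≠ 1 := by
  obtain ⟨L, k, -, hv, hp, -⟩ := h.blk i
  exact hp.2.2

theorem xz (h : Omega S V x U z) (i : Fin n) : x i ∈ ZN.zc (bau (S : Subgroup G)) := by
  obtain ⟨L, k, -, hv, hp, -⟩ := h.blk i
  exact hp.2.1

theorem V_le_bau (h : Omega S V x U z) (i : Fin n) : V i ≤ bau (S : Subgroup G) := by
  obtain ⟨L, k, hk, hv, -⟩ := h.blk i
  rw [← hv]; exact vl_le_B hk

theorem U_le_bau (h : Omega S V x U z) : U ≤ bau (S : Subgroup G) := by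
  rw [h.U_eq]; exact iSup_le (V_le_bau h)

theorem vsq (h : Omega S V x U z) (i : Fin n) : ∀ v ∈ V i, v ^ 2 = 1 :=
  fun v hv => h.sq v (V_le h i hv)

/-- `V i ∩ V j = 1`. -/
theorem eq_of_mem (h : Omega S V x U z) {i j : Fin n} {v : G} (hi : v ∈ V i) (hj : v ∈ V j)
    (hv : v ≠ 1) : i = j := by
  by_contra hij
  have h1 := (h.indep i).le_bot (show v ∈ V i ⊓ ⨆ j, ⨆ (_ : j ≠ i), V j from
    ⟨hi, (le_iSup₂_of_le j (fun h0 => hij h0.symm) le_rfl : V j ≤ _) hj⟩)
  exact hv (mem_bot.mp h1)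

theorem V_inj (h : Omega S V x U z) : Function.Injective V := fun i j hij => by
  have h1 := xV h i
  rw [hij] at h1
  exact eq_of_mem h (xV h i) h1 (x1 h i)

theorem V_le_co {i j : Fin n} (hij : j ≠ i) : V j ≤ co V i :=
  le_iSup (fun j : {j : Fin n // j ≠ i} => V j) ⟨j, hij⟩

theorem co_le (h : Omega S V x U z) (i : Fin n) : co V i ≤ U :=
  iSup_le fun j => V_le h j

/-- `V i` meets `co V i` trivially. -/
theorem eq_one_of_mem_co (h : Omega S V x U z) {i : Fin n} {v : G} (hi : v ∈ V i)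
    (hj : v ∈ co V i) : v = 1 := by
  have h1 : co V i ≤ ⨆ j, ⨆ (_ : j ≠ i), V j := iSup_le fun j => le_iSup₂_of_le (j : Fin n) j.2 le_rfl
  exact mem_bot.mp ((h.indep i).le_bot ⟨hi, h1 hj⟩)

theorem exists_ne (h : Omega S V x U z) (i : Fin n) : ∃ j, j ≠ i := by
  have h2 := h.two_le
  have : Nontrivial (Fin n) := Fin.nontrivial_iff_two_le.mpr h2
  exact _root_.exists_ne i

/-- the elements normalizing all `V j` -/
theorem y_norm (h : Omega S V x U z) {i : Fin n} {y : G} (hy : y ∈ normalizer (U : Set G))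
    (hj : ∀ j, j ≠ i → ∀ v ∈ V j, y * v * y⁻¹ = v) : cj y (V i) = V i := by
  obtain ⟨j, hj'⟩ := h.perm y hy i
  by_cases hji : j = i
  · rw [hji] at hj'; exact hj'
  exfalso
  have h1 : cj y (V j) = V j := by
    apply le_antisymm
    · rintro _ ⟨v, hv, rfl⟩
      have := hj j hji v hv
      change y * v * y⁻¹ ∈ V j
      rwa [this]
    · intro v hv
      exact ⟨v, hv, hj j hji v hv⟩
  have h2 : V i = V j := Subgroup.map_injective (MulAut.conj y).injective (hj'.trans h1.symm)
  exact hji (V_inj h h2).symm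

/-- An element of `M` moving `v ∈ V i` to the point `x i`, trivial on the other `V j`. -/
theorem exists_to_pt (h : Omega S V x U z) (i : Fin n) {v : G} (hv : v ∈ V i) (hv1 : v ≠ 1) :
    ∃ p ∈ normalizer (U : Set G), cj p (V i) = V i ∧ p * v * p⁻¹ = x i ∧
      ∀ j, j ≠ i → ∀ w ∈ V j, p * w * p⁻¹ = w := by
  obtain ⟨y, hy, hfix, hj⟩ := h.y i
  have hj' : ∀ j, j ≠ i → ∀ v ∈ V j, y * v * y⁻¹ = v := fun j h0 v hv =>
    Four.conj_eq_iff_comm.mpr (hj j h0 v hv)
  have hyV := y_norm h hy hj'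
  have hyn : y ∈ normalizer (V i : Set G) := mem_normalizer_iff_cj.mpr hyV
  have hv' := Four.conj_mem hyn hv
  have h1 : y * v * y⁻¹ ≠ v := fun h0 => hv1 (hfix v hv h0)
  have h2 : y * v * y⁻¹ ≠ 1 := fun h0 => hv1 (conj_eq_one_iff.mp h0)
  have h3 : y * (y * v * y⁻¹) * y⁻¹ = v * (y * v * y⁻¹) := by
    rcases Four.four (h.card i) (vsq h i) hv hv' hv1 h2 h1.symm _ (Four.conj_mem hyn hv')
      with h3 | h3 | h3 | h3
    · exact absurd (conj_eq_one_iff.mp h3) h2
    · exfalso
      have h4 : v * (y * v * y⁻¹) ≠ 1 := by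
        intro h0
        apply h1
        have hvv := vsq h i v hv
        rw [pow_two] at hvv
        calc y * v * y⁻¹ = (v * v) * (y * v * y⁻¹) := by rw [hvv, one_mul]
          _ = v * (v * (y * v * y⁻¹)) := by group
          _ = v := by rw [h0, mul_one]
      refine h4 (hfix _ (mul_mem hv hv') ?_)
      calc y * (v * (y * v * y⁻¹)) * y⁻¹ = (y * v * y⁻¹) * (y * (y * v * y⁻¹) * y⁻¹) := by group
        _ = (y * v * y⁻¹) * v := by rw [h3]
        _ = v * (y * v * y⁻¹) := h.comm _ (V_le h i hv') _ (V_le h i hv)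
    · exact absurd (hfix _ hv' h3) h2
    · exact h3
  rcases Four.four (h.card i) (vsq h i) hv hv' hv1 h2 h1.symm _ (xV h i) with h4 | h4 | h4 | h4
  · exact absurd h4 (x1 h i)
  · exact ⟨1, one_mem _, cj_one _, by rw [h4]; group, fun j _ w _ => by group⟩
  · exact ⟨y, hy, hyV, h4.symm, hj'⟩
  · refine ⟨y * y, mul_mem hy hy, by rw [← cj_cj, hyV, hyV], ?_, fun j h0 w hw => ?_⟩
    · calc y * y * v * (y * y)⁻¹ = y * (y * v * y⁻¹) * y⁻¹ := by group
        _ = x i := by rw [h3, h4]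
    · calc y * y * w * (y * y)⁻¹ = y * (y * w * y⁻¹) * y⁻¹ := by group
        _ = w := by rw [hj' j h0 w hw, hj' j h0 w hw]

/-- Elements of `∏_{j ∈ s} V j` are conjugate in `M` to products of points. -/
theorem exists_conj (h : Omega S V x U z) (s : Finset (Fin n)) :
    ∀ u ∈ ⨆ j ∈ s, V j, ∃ m ∈ normalizer (U : Set G),
      (∀ j, j ∉ s → ∀ v ∈ V j, m * v * m⁻¹ = v) ∧
      m * u * m⁻¹ ∈ closure (x '' (s : Set (Fin n))) := by
  classical
  induction s using Finset.induction_on with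
  | empty =>
    intro u hu
    have h1 : u = 1 := by simpa using hu
    exact ⟨1, one_mem _, fun j _ v _ => by group, by rw [h1]; simp [one_mem]⟩
  | insert a s ha ih =>
    intro u hu
    rw [Finset.iSup_insert] at hu
    have hsU : (⨆ j ∈ s, V j) ≤ U := iSup₂_le fun j _ => V_le h j
    rw [BlkFam.mem_sup_of_comm
      (fun r hr v hv => h.comm r (V_le h a hr) v (hsU hv))] at hu
    obtain ⟨v, hv, w, hw, rfl⟩ := hu
    obtain ⟨m, hm, hm1, hm2⟩ := ih w hw
    have hmv := hm1 a ha v hv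
    -- an element `p` with `p v p⁻¹ ∈ {1, x a}`, trivial on the other `V j`
    obtain ⟨p, hp, hpv, hpj⟩ : ∃ p ∈ normalizer (U : Set G),
        (p * v * p⁻¹ = 1 ∨ p * v * p⁻¹ = x a) ∧ ∀ j, j ≠ a → ∀ v ∈ V j, p * v * p⁻¹ = v := by
      by_cases hv1 : v = 1
      · exact ⟨1, one_mem _, Or.inl (by rw [hv1]; group), fun j _ v _ => by group⟩
      obtain ⟨p, hp, -, h1, h2⟩ := exists_to_pt h a hv hv1
      exact ⟨p, hp, Or.inr h1, h2⟩
    refine ⟨p * m, mul_mem hp hm, fun j hj v' hv' => ?_, ?_⟩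
    · rw [Finset.mem_insert, not_or] at hj
      calc p * m * v' * (p * m)⁻¹ = p * (m * v' * m⁻¹) * p⁻¹ := by group
        _ = v' := by rw [hm1 j hj.2 v' hv', hpj j hj.1 v' hv']
    · have hw' : p * (m * w * m⁻¹) * p⁻¹ = m * w * m⁻¹ := by
        have h1 : closure (x '' (s : Set (Fin n))) ≤ centralizer ({p} : Set G) := by
          rw [closure_le]
          rintro _ ⟨j, hj, rfl⟩
          have hja : j ≠ a := by
            rintro rfl
            exact ha hj
          change x j ∈ centralizer ({p} : Set G)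
          rw [mem_centralizer_singleton_iff]
          exact (Four.conj_eq_iff_comm.mp (hpj j hja _ (xV h j))).symm
        have h2 := mem_centralizer_singleton_iff.mp (h1 hm2)
        exact Four.conj_eq_iff_comm.mpr h2.symm
      have e : p * m * (v * w) * (p * m)⁻¹ = (p * (m * v * m⁻¹) * p⁻¹) *
          (p * (m * w * m⁻¹) * p⁻¹) := by group
      rw [e, hw', hmv]
      have hsub : closure (x '' (s : Set (Fin n))) ≤
          closure (x '' ((insert a s : Finset (Fin n)) : Set (Fin n))) := by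
        refine closure_mono (Set.image_mono ?_)
        rw [Finset.coe_insert]
        exact Set.subset_insert _ _
      refine mul_mem ?_ (hsub hm2)
      rcases hpv with h1 | h1
      · rw [h1]; exact one_mem _
      · rw [h1]
        exact subset_closure ⟨a, by simp, rfl⟩

/-- A product of points in `co V i` for all `i` is trivial. -/
theorem eq_one_of_forall (h : Omega S V x U z) (s : Finset (Fin n)) :
    ∀ a ∈ closure (x '' (s : Set (Fin n))), (∀ i ∈ s, a ∈ co V i) → a = 1 := by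
  classical
  induction s using Finset.induction_on with
  | empty =>
    intro a ha _
    simpa using ha
  | insert j s hj ih =>
    intro a ha hco
    rw [Finset.coe_insert, Set.image_insert_eq, Set.insert_eq, Subgroup.closure_union] at ha
    have hsz : ∀ t : Set (Fin n), closure (x '' t) ≤ U := fun t => by
      rw [closure_le]
      rintro _ ⟨i, -, rfl⟩
      exact V_le h i (xV h i)
    have hxj : closure {x j} ≤ V j := by
      rw [closure_le, Set.singleton_subset_iff]
      exact xV h j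
    rw [BlkFam.mem_sup_of_comm
      (fun r hr v hv => h.comm r (V_le h j (hxj hr)) v (hsz _ hv))] at ha
    obtain ⟨c, hc, b, hb, rfl⟩ := ha
    have hbj : b ∈ co V j := by
      refine (closure_le _).mpr ?_ hb
      rintro _ ⟨i, hi, rfl⟩
      refine V_le_co ?_ (xV h i)
      rintro rfl
      exact hj hi
    have hc1 : c = 1 := by
      refine eq_one_of_mem_co h (hxj hc) ?_
      have h1 := hco j (Finset.mem_insert_self j s)
      have e : c = c * b * b⁻¹ := by group
      rw [e]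
      exact mul_mem h1 (inv_mem hbj)
    rw [hc1, one_mul]
    refine ih b hb fun i hi => ?_
    have h1 := hco i (Finset.mem_insert_of_mem hi)
    rwa [hc1, one_mul] at h1

/-! ### The point `z` -/

theorem z_mem (h : Omega S V x U z) : z ∈ U := by
  rw [h.z_eq]
  refine Subgroup.list_prod_mem _ fun y hy => ?_
  obtain ⟨i, rfl⟩ := (List.mem_ofFn' _ _).mp hy
  exact V_le h i (xV h i)

theorem z_mem_closure (h : Omega S V x U z) :
    z ∈ closure (x '' ((Finset.univ : Finset (Fin n)) : Set (Fin n))) := by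
  rw [h.z_eq]
  refine Subgroup.list_prod_mem _ fun y hy => ?_
  obtain ⟨i, rfl⟩ := (List.mem_ofFn' _ _).mp hy
  exact subset_closure ⟨i, by simp, rfl⟩

theorem z_comm (h : Omega S V x U z) {s : G} (hs : s ∈ (S : Subgroup G)) : s * z = z * s := by
  have h1 : z ∈ ZN.zc (S : Subgroup G) := by rw [h.zc]; exact mem_zpowers z
  exact zc_comm h1 hs

theorem S_le_C (h : Omega S V x U z) : (S : Subgroup G) ≤ centralizer ({z} : Set G) := fun s hs => by
  rw [mem_centralizer_singleton_iff]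
  exact z_comm h hs

theorem cj_co (h : Omega S V x U z) {m : G} (hm : m ∈ normalizer (U : Set G)) (i : Fin n) :
    ∃ j, cj m (V i) = V j ∧ cj m (co V i) = co V j := by
  obtain ⟨j, hj⟩ := h.perm m hm i
  refine ⟨j, hj, ?_⟩
  have key : ∀ {g : G}, g ∈ normalizer (U : Set G) → ∀ {a b : Fin n},
      cj g (V a) = V b → cj g (co V a) ≤ co V b := by
    intro g hg a b hab
    have h0 : cj g (co V a) = ⨆ l : {l : Fin n // l ≠ a}, cj g (V l) := Subgroup.map_iSup _ _
    rw [h0]
    refine iSup_le fun l => ?_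
    obtain ⟨l', hl'⟩ := h.perm g hg l
    have h1 : l' ≠ b := by
      rintro rfl
      have h2 : V a = V l := Subgroup.map_injective (MulAut.conj g).injective (hab.trans hl'.symm)
      exact l.2 (V_inj h h2).symm
    rw [show cj g (V l) = V l' from hl']
    exact V_le_co h1
  apply le_antisymm (key hm hj)
  have h1 : cj m⁻¹ (V j) = V i := by rw [← hj]; exact cj_inv_cj m (V i)
  have h2 := key (inv_mem hm) h1
  rw [cj_le_iff, inv_inv] at h2
  exact h2

variable [Finite G]

theorem S_ne_bot (h : Omega S V x U z) : (S : Subgroup G) ≠ ⊥ := by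
  intro h0
  obtain ⟨i, j, -⟩ : ∃ i j : Fin n, i ≠ j := by
    obtain ⟨j, hj⟩ := exists_ne h ⟨0, by have := h.two_le; omega⟩
    exact ⟨_, j, hj.symm⟩
  have h1 := bau_le _ (V_le_bau h i (xV h i))
  rw [h0, mem_bot] at h1
  exact x1 h i h1

theorem z_ne (h : Omega S V x U z) : z ≠ 1 := by
  intro h0
  apply ZN.zc_ne_bot S.isPGroup' (S_ne_bot h)
  rw [h.zc, h0, zpowers_one_eq_bot]

theorem z_full (h : Omega S V x U z) (i : Fin n) : z ∉ co V i := fun h0 =>
  h.not_le (h.cent_le i z h0 (z_ne h))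

/-- A full element of `U` is conjugate to `z` in `M`. -/
theorem exists_conj_z (h : Omega S V x U z) {w : G} (hw : w ∈ U) (hf : ∀ i, w ∉ co V i) :
    ∃ m ∈ normalizer (U : Set G), m * w * m⁻¹ = z := by
  classical
  have h1 : w ∈ ⨆ j ∈ (Finset.univ : Finset (Fin n)), V j := by
    rw [h.U_eq] at hw
    exact (iSup_le fun j => le_iSup₂_of_le j (Finset.mem_univ j) le_rfl : (⨆ i, V i) ≤ _) hw
  obtain ⟨m, hm, -, hm2⟩ := exists_conj h _ w h1
  refine ⟨m, hm, ?_⟩
  set a := m * w * m⁻¹ with ha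
  have hfa : ∀ i, a ∉ co V i := by
    intro i hi
    obtain ⟨j, -, hj⟩ := cj_co h (inv_mem hm) i
    apply hf j
    rw [← hj]
    exact ⟨a, hi, by rw [ha]; simp [mul_assoc]⟩
  have hzU := z_mem h
  have haU : a ∈ U := Four.conj_mem hm hw
  -- the components of an element of `closure (range x)`
  have key : ∀ b ∈ closure (x '' ((Finset.univ : Finset (Fin n)) : Set (Fin n))), ∀ i,
      b ∉ co V i → x i * b ∈ co V i := by
    intro b hb i hbi
    have e : (Finset.univ : Finset (Fin n)) = insert i (Finset.univ.erase i) := by simp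
    rw [e, Finset.coe_insert, Set.image_insert_eq, Set.insert_eq, Subgroup.closure_union] at hb
    have hsz : closure (x '' ((Finset.univ.erase i : Finset (Fin n)) : Set (Fin n))) ≤ co V i := by
      rw [closure_le]
      rintro _ ⟨j, hj, rfl⟩
      exact V_le_co (Finset.mem_erase.mp (Finset.mem_coe.mp hj)).1 (xV h j)
    have hxi : closure {x i} ≤ V i := by
      rw [closure_le, Set.singleton_subset_iff]
      exact xV h i
    rw [BlkFam.mem_sup_of_comm
      (fun r hr v hv => h.comm r (V_le h i (hxi hr)) v (co_le h i (hsz hv)))] at hb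
    obtain ⟨c, hc, d, hd, rfl⟩ := hb
    have hxx := vsq h i _ (xV h i)
    rw [← zpowers_eq_closure, zpowers_eq hxx] at hc
    rw [pow_two] at hxx
    rcases hc with rfl | rfl
    · exfalso
      apply hbi
      rw [one_mul]
      exact hsz hd
    · rw [← mul_assoc, hxx, one_mul]
      exact hsz hd
  have h2 : a * z = 1 := by
    refine eq_one_of_forall h Finset.univ _ (mul_mem hm2 (z_mem_closure h)) fun i _ => ?_
    have h3 := key a hm2 i (hfa i)
    have h4 := key z (z_mem_closure h) i (z_full h i)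
    have hxx := vsq h i _ (xV h i)
    rw [pow_two] at hxx
    have hxU := V_le h i (xV h i)
    have e : a * z = (x i * a) * (x i * z) := by
      calc a * z = a * (x i * x i) * z := by rw [hxx, mul_one]
        _ = (a * x i) * (x i * z) := by group
        _ = (x i * a) * (x i * z) := by rw [h.comm a haU _ hxU]
    rw [e]
    exact mul_mem h3 h4
  have hzz := h.sq z hzU
  rw [pow_two] at hzz
  calc a = a * (z * z) := by rw [hzz, mul_one]
    _ = (a * z) * z := by group
    _ = z := by rw [h2, one_mul]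

/-! ### Fusion -/

theorem syl_cj (S : Sylow 2 G) {X : Subgroup G} {g : G} (h : cj g (S : Subgroup G) ≤ X) :
    ChoiceSit.Syl (cj g (S : Subgroup G)) X := by
  refine ⟨h, S.isPGroup'.map _, fun Q hQX hQ hle => ?_⟩
  have h1 : (S : Subgroup G) ≤ cj g⁻¹ Q := by
    rw [← cj_le_iff]; exact hle
  have h2 : cj g⁻¹ Q = (S : Subgroup G) := S.is_maximal' (hQ.map _) h1
  rw [← h2, cj_cj_inv]

theorem nS_le (h : Omega S V x U z) {g : G} (hg : cj g (S : Subgroup G) = S) :
    g ∈ normalizer (U : Set G) :=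
  h.nb_le (normalizer_le_normalizer_bau _ (mem_normalizer_iff_cj.mpr hg))

/-- `S ^ h ≤ M` implies `h ∈ M`. -/
theorem mem_of_cj_le (h : Omega S V x U z) {g : G}
    (hg : cj g (S : Subgroup G) ≤ normalizer (U : Set G)) : g ∈ normalizer (U : Set G) := by
  have h0 : ChoiceSit.Syl (S : Subgroup G) (normalizer (U : Set G)) := by
    have := syl_cj S (g := 1) (X := normalizer (U : Set G)) (by rw [cj_one]; exact h.S_le)
    rwa [cj_one] at this
  obtain ⟨m, hm, h1⟩ := ChoiceSit.syl_conj (syl_cj S hg) h0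
  have h2 : cj m (cj g (S : Subgroup G)) = S := h1
  rw [cj_cj] at h2
  have h3 := nS_le h h2
  have e : g = m⁻¹ * (m * g) := by group
  rw [e]
  exact mul_mem (inv_mem hm) h3

/-- `bau S ≤ M ^ g` implies `g ∈ M`. -/
theorem mem_of_bau_le (h : Omega S V x U z) {g : G}
    (hg : bau (S : Subgroup G) ≤ normalizer ((cj g U : Subgroup G) : Set G)) :
    g ∈ normalizer (U : Set G) := by
  obtain ⟨T, hT, hBT⟩ := ChoiceSit.exists_syl (isPGroup_bau S.isPGroup') hg
  have h0 : cj g (S : Subgroup G) ≤ normalizer ((cj g U : Subgroup G) : Set G) := by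
    rw [← cj_normalizer]
    exact cj_mono h.S_le
  obtain ⟨m, hm, h1⟩ := ChoiceSit.syl_conj (syl_cj S h0) hT
  have h2 : cj m (cj g (S : Subgroup G)) = T := h1
  rw [cj_cj] at h2
  have h3 : bau T = bau (S : Subgroup G) := SamePt.bau_eq S hT.2.1 hBT
  have h4 : cj (m * g) (bau (S : Subgroup G)) = bau (S : Subgroup G) := by
    have h5 : bau (cj (m * g) (S : Subgroup G)) = cj (m * g) (bau (S : Subgroup G)) :=
      bau_map _ (MulAut.conj (m * g)).injective _
    rw [← h5, h2, h3]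
  have h5 : m * g ∈ normalizer (U : Set G) := h.nb_le (mem_normalizer_iff_cj.mpr h4)
  rw [← cj_normalizer, mem_cj] at hm
  have e : g = (m * g) * (g⁻¹ * m * g)⁻¹ := by group
  rw [e]
  exact mul_mem h5 (inv_mem hm)

/-- `V i` is TI, with centralizers of its elements in `N_G(V i)`. -/
theorem cent_V (h : Omega S V x U z) (i : Fin n) {v : G} (hv : v ∈ V i) (hv1 : v ≠ 1) :
    centralizer ({v} : Set G) ≤ normalizer (V i : Set G) := by
  intro c hc
  obtain ⟨j, hj⟩ := exists_ne h i
  have h1 : c ∈ normalizer (U : Set G) := h.cent_le j v (V_le_co hj.symm hv) hv1 hc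
  obtain ⟨l, hl⟩ := h.perm c h1 i
  have h2 : v ∈ V l := by
    rw [← hl]
    refine ⟨v, hv, ?_⟩
    exact Four.conj_eq_iff_comm.mpr (mem_centralizer_singleton_iff.mp hc)
  have h3 := eq_of_mem h hv h2 hv1
  rw [← h3] at hl
  exact mem_normalizer_iff_cj.mpr hl

theorem TI (h : Omega S V x U z) (i j : Fin n) (g : G) (hne : V i ⊓ cj g (V j) ≠ ⊥) :
    V i = cj g (V j) := by
  obtain ⟨⟨v, hv⟩, hv1⟩ := Subgroup.ne_bot_iff_exists_ne_one.mp hne
  have hv1' : v ≠ 1 := fun h0 => hv1 (Subtype.ext h0)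
  obtain ⟨w, hw, hwv⟩ := hv.2
  have hwv' : g * w * g⁻¹ = v := hwv
  have hw1 : w ≠ 1 := by
    rintro rfl
    apply hv1'
    rw [← hwv']; group
  obtain ⟨p, -, hpV, hpx, -⟩ := exists_to_pt h i hv.1 hv1'
  obtain ⟨q, -, hqV, hqx, -⟩ := exists_to_pt h j hw hw1
  obtain ⟨s, hs, hsV⟩ := h.trans i j
  have hsV' : cj s (V i) = V j := hsV
  -- `s x_i s⁻¹ = x_j`
  have hsx : s * x i * s⁻¹ = x j := by
    obtain ⟨L, k, hk, hv, hp, -⟩ := h.blk j
    refine hp.unique hk ⟨?_, ?_, fun h0 => x1 h i (conj_eq_one_iff.mp h0)⟩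
    · rw [hv, ← hsV]
      exact ⟨x i, xV h i, rfl⟩
    · exact Four.conj_mem (normalizer_le_normalizer_zc _ (le_normalizer_bau _ hs)) (xz h i)
  set c := p * g * q⁻¹ * s with hc
  have h1 : c * x i * c⁻¹ = x i := by
    calc c * x i * c⁻¹ = p * g * q⁻¹ * (s * x i * s⁻¹) * (p * g * q⁻¹)⁻¹ := by rw [hc]; group
      _ = p * (g * (q⁻¹ * (q * w * q⁻¹) * q) * g⁻¹) * p⁻¹ := by rw [hsx, ← hqx]; group
      _ = p * (g * w * g⁻¹) * p⁻¹ := by group
      _ = x i := by rw [hwv', hpx]
  have h2 : c ∈ normalizer (V i : Set G) := by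
    refine cent_V h i (xV h i) (x1 h i) ?_
    rw [mem_centralizer_singleton_iff]
    exact Four.conj_eq_iff_comm.mp h1
  have h3 := mem_normalizer_iff_cj.mp h2
  have h4 : cj g (V j) = V i := by
    have hq' : cj q⁻¹ (V j) = V j := by
      conv_lhs => rw [← hqV]
      exact cj_inv_cj q (V j)
    have hp' : cj p⁻¹ (V i) = V i := by
      conv_lhs => rw [← hpV]
      exact cj_inv_cj p (V i)
    rw [hc, ← cj_cj, ← cj_cj, ← cj_cj, hsV', hq'] at h3
    have h5 := congrArg (cj p⁻¹) h3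
    rw [cj_inv_cj, hp'] at h5
    exact h5
  exact h4.symm

/-- (O1) -/
theorem inter (h : Omega S V x U z) (g : G) (hg : g ∉ normalizer (U : Set G)) (i : Fin n) :
    co V i ⊓ cj g U = ⊥ := by
  classical
  by_contra hne
  obtain ⟨⟨u, hu⟩, hu1⟩ := Subgroup.ne_bot_iff_exists_ne_one.mp hne
  have hu1' : u ≠ 1 := fun h0 => hu1 (Subtype.ext h0)
  -- move `u` into `Ω₁(Z(B))`
  have h1 : u ∈ ⨆ j ∈ Finset.univ.erase i, V j := by
    refine (iSup_le fun j => ?_ : co V i ≤ _) hu.1
    exact le_iSup₂_of_le (j : Fin n) (Finset.mem_erase.mpr ⟨j.2, Finset.mem_univ _⟩) le_rfl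
  obtain ⟨m, hm, -, hm2⟩ := exists_conj h _ u h1
  set a := m * u * m⁻¹ with ha
  have ha1 : a ≠ 1 := fun h0 => hu1' (conj_eq_one_iff.mp h0)
  have haz : a ∈ ZN.zc (bau (S : Subgroup G)) := by
    refine (closure_le _).mpr ?_ hm2
    rintro _ ⟨j, -, rfl⟩
    exact xz h j
  have hai : a ∈ co V i := by
    refine (closure_le _).mpr ?_ hm2
    rintro _ ⟨j, hj, rfl⟩
    exact V_le_co (Finset.mem_erase.mp (Finset.mem_coe.mp hj)).1 (xV h j)
  set g' := m * g with hg'
  have hg'M : g' ∉ normalizer (U : Set G) := by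
    intro h0
    apply hg
    have e : g = m⁻¹ * g' := by rw [hg']; group
    rw [e]
    exact mul_mem (inv_mem hm) h0
  have hag : g'⁻¹ * a * g' ∈ U := by
    have h2 := mem_cj.mp hu.2
    have e : g'⁻¹ * a * g' = g⁻¹ * u * g := by rw [hg', ha]; group
    rwa [e]
  set w := g'⁻¹ * a * g' with hw
  have haw : g' * w * g'⁻¹ = a := by rw [hw]; group
  by_cases hf : ∀ j, w ∉ co V j
  · -- `u` is full in `U ^ g`
    obtain ⟨m', hm', hz⟩ := exists_conj_z h hag hf
    set c := g' * m'⁻¹ with hc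
    have h3 : c * z * c⁻¹ = a := by
      calc c * z * c⁻¹ = g' * (m'⁻¹ * (m' * w * m'⁻¹) * m') * g'⁻¹ := by rw [hc, hz]; group
        _ = g' * w * g'⁻¹ := by group
        _ = a := haw
    have h4 : cj c (S : Subgroup G) ≤ normalizer (U : Set G) := by
      refine le_trans ?_ (h.cent_le i a hai ha1)
      rw [← h3, ← cj_centralizer_singleton]
      exact cj_mono (S_le_C h)
    have h5 := mem_of_cj_le h h4
    apply hg'M
    have e : g' = c * m' := by rw [hc]; group
    rw [e]
    exact mul_mem h5 hm'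
  · -- `u` is not full in `U ^ g`
    push Not at hf
    obtain ⟨j, hj⟩ := hf
    have hw1 : w ≠ 1 := by
      intro h0
      apply ha1
      rw [← haw, h0]; group
    have h3 := h.cent_le j w hj hw1
    apply hg'M
    apply mem_of_bau_le h
    have h4 : centralizer ({a} : Set G) ≤ normalizer ((cj g' U : Subgroup G) : Set G) := by
      rw [← haw, ← cj_centralizer_singleton, ← cj_normalizer]
      exact cj_mono h3
    refine le_trans (fun b hb => ?_) h4
    rw [mem_centralizer_singleton_iff]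
    exact zc_comm haz hb

/-! ### Step 0 -/

/-- An element of `U ^ c`, `c ∈ C`, not centralizing `U` moves all `V i`. -/
theorem moves_all (h : Omega S V x U z) {c : G} (hcM : c ∉ normalizer (U : Set G))
    (hU : U ≤ normalizer ((cj c U : Subgroup G) : Set G)) {y : G} (hy : y ∈ cj c U)
    (hyM : y ∈ normalizer (U : Set G)) {a : G} (ha : a ∈ U) (hay : a * y ≠ y * a) (l : Fin n) :
    cj y (V l) ≠ V l := by
  -- `y` moves some `V i`
  have h1 : ∃ i, cj y (V i) ≠ V i := by
    by_contra hcon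
    push Not at hcon
    apply hay
    have h2 : U ≤ centralizer ({y} : Set G) := by
      conv_lhs => rw [h.U_eq]
      refine iSup_le fun i v hv => ?_
      rw [mem_centralizer_singleton_iff]
      have h3 : y * v * y⁻¹ * v⁻¹ ∈ co V (Classical.choose (exists_ne h i)) ⊓ cj c U := by
        have hj := Classical.choose_spec (exists_ne h i)
        refine ⟨V_le_co hj.symm ?_, ?_⟩
        · refine mul_mem ?_ (inv_mem hv)
          have := hcon i
          rw [← this]
          exact ⟨v, hv, rfl⟩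
        · have h4 : v * y⁻¹ * v⁻¹ ∈ cj c U := Four.conj_mem (hU (V_le h i hv)) (inv_mem hy)
          have e : y * v * y⁻¹ * v⁻¹ = y * (v * y⁻¹ * v⁻¹) := by group
          rw [e]
          exact mul_mem hy h4
      rw [inter h c hcM, mem_bot] at h3
      have h4 : y * v * y⁻¹ = v := mul_inv_eq_one.mp h3
      exact (Four.conj_eq_iff_comm.mp h4).symm
    exact mem_centralizer_singleton_iff.mp (h2 ha)
  obtain ⟨i, hi⟩ := h1
  obtain ⟨j, hj⟩ := h.perm y hyM i
  have hij : j ≠ i := by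
    rintro rfl
    exact hi hj
  -- all indices are `i` or `j`
  have hall : ∀ l, l = i ∨ l = j := by
    intro l
    by_contra hcon
    push Not at hcon
    obtain ⟨v, hv, hv1⟩ : ∃ v ∈ V i, v ≠ 1 := ⟨x i, xV h i, x1 h i⟩
    have hv' : y * v * y⁻¹ ∈ V j := by
      rw [← hj]
      exact ⟨v, hv, rfl⟩
    have h3 : y * v * y⁻¹ * v⁻¹ ∈ co V l ⊓ cj c U := by
      refine ⟨(co V l).mul_mem (V_le_co (fun h0 => hcon.2 h0.symm) hv')
        ((co V l).inv_mem (V_le_co (fun h0 => hcon.1 h0.symm) hv)), ?_⟩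
      have h4 : v * y⁻¹ * v⁻¹ ∈ cj c U := Four.conj_mem (hU (V_le h i hv)) (inv_mem hy)
      have e : y * v * y⁻¹ * v⁻¹ = y * (v * y⁻¹ * v⁻¹) := by group
      rw [e]
      exact mul_mem hy h4
    rw [inter h c hcM, mem_bot] at h3
    have h4 : y * v * y⁻¹ = v := mul_inv_eq_one.mp h3
    rw [h4] at hv'
    exact hij (eq_of_mem h hv hv' hv1).symm
  -- `y` has order 2
  have hyy : y * y = 1 := by
    have h3 := mem_cj.mp hy
    have h4 := h.sq _ h3
    rw [pow_two] at h4
    calc y * y = c * ((c⁻¹ * y * c) * (c⁻¹ * y * c)) * c⁻¹ := by group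
      _ = 1 := by rw [h4]; group
  rcases hall l with rfl | rfl
  · exact hi
  · intro h0
    apply hi
    have h3 : cj y (cj y (V i)) = V i := by rw [cj_cj, hyy, cj_one]
    have h4 : cj y (V i) = V l := hj
    rw [h4, h0] at h3
    rw [h4, h3]

/-- The product of two elements of `U ^ c` not centralizing `U` centralizes `U`. -/
theorem comm_of_two (h : Omega S V x U z) {c : G} (hcM : c ∉ normalizer (U : Set G))
    (hU : U ≤ normalizer ((cj c U : Subgroup G) : Set G))
    (hU' : cj c U ≤ normalizer (U : Set G)) {y y' : G} (hy : y ∈ cj c U) (hy' : y' ∈ cj c U)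
    (h1 : ∃ a ∈ U, a * y ≠ y * a) (h2 : ∃ a ∈ U, a * y' ≠ y' * a) :
    ∀ a ∈ U, a * (y * y') = (y * y') * a := by
  by_contra hcon
  push Not at hcon
  obtain ⟨a₀, ha₀, h3⟩ := hcon
  obtain ⟨a₁, ha₁, h1⟩ := h1
  obtain ⟨a₂, ha₂, h2⟩ := h2
  obtain ⟨i⟩ : Nonempty (Fin n) := ⟨⟨0, by have := h.two_le; omega⟩⟩
  have hm1 := moves_all h hcM hU hy (hU' hy) ha₁ h1
  have hm2 := moves_all h hcM hU hy' (hU' hy') ha₂ h2
  have hm3 := moves_all h hcM hU (mul_mem hy hy') (hU' (mul_mem hy hy')) ha₀ h3 i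
  -- exactly two indices
  have hall : ∀ (y : G), y ∈ cj c U → (∀ l, cj y (V l) ≠ V l) → ∀ (j l : Fin n),
      cj y (V i) = V j → l = i ∨ l = j := by
    intro y hy hmy j l hj
    have hyM := hU' hy
    by_contra hcon
    push Not at hcon
    have hij : j ≠ i := by
      rintro rfl
      exact hmy _ hj
    obtain ⟨v, hv, hv1⟩ : ∃ v ∈ V i, v ≠ 1 := ⟨x i, xV h i, x1 h i⟩
    have hv' : y * v * y⁻¹ ∈ V j := by
      rw [← hj]
      exact ⟨v, hv, rfl⟩
    have h3 : y * v * y⁻¹ * v⁻¹ ∈ co V l ⊓ cj c U := by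
      refine ⟨(co V l).mul_mem (V_le_co (fun h0 => hcon.2 h0.symm) hv')
        ((co V l).inv_mem (V_le_co (fun h0 => hcon.1 h0.symm) hv)), ?_⟩
      have h4 : v * y⁻¹ * v⁻¹ ∈ cj c U := Four.conj_mem (hU (V_le h i hv)) (inv_mem hy)
      have e : y * v * y⁻¹ * v⁻¹ = y * (v * y⁻¹ * v⁻¹) := by group
      rw [e]
      exact mul_mem hy h4
    rw [inter h c hcM, mem_bot] at h3
    have h4 : y * v * y⁻¹ = v := mul_inv_eq_one.mp h3
    rw [h4] at hv'
    exact hij (eq_of_mem h hv hv' hv1).symm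
  obtain ⟨j, hj⟩ := h.perm y' (hU' hy') i
  have hj' : cj y' (V i) = V j := hj
  have hji : j ≠ i := by
    rintro rfl
    exact hm2 _ hj'
  obtain ⟨l, hl⟩ := h.perm y (hU' hy) j
  have hl' : cj y (V j) = V l := hl
  have hli : l = i := by
    rcases hall y' hy' hm2 j l hj' with h0 | h0
    · exact h0
    · exfalso
      rw [h0] at hl'
      exact hm1 j hl'
  apply hm3
  rw [← cj_cj, hj', hl', hli]

/-- Step 0: `⟨U ^ C⟩` is abelian. -/
theorem uc (h : Omega S V x U z) (hD : U ≤ o2 (centralizer ({z} : Set G))) {c : G}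
    (hc : c ∈ centralizer ({z} : Set G)) {a b : G} (ha : a ∈ U) (hb : b ∈ cj c U) :
    a * b = b * a := by
  by_cases hcM : c ∈ normalizer (U : Set G)
  · rw [mem_normalizer_iff_cj.mp hcM] at hb
    exact h.comm a ha b hb
  have hCn := ZN.le_normalizer_o2 (centralizer ({z} : Set G))
  have ho2 : ∀ g ∈ centralizer ({z} : Set G), cj g U ≤ o2 (centralizer ({z} : Set G)) := by
    intro g hg
    rintro _ ⟨u, hu, rfl⟩
    exact Four.conj_mem (hCn hg) (hD hu)
  have hSsyl : ∀ g ∈ centralizer ({z} : Set G),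
      o2 (centralizer ({z} : Set G)) ≤ normalizer ((cj g U : Subgroup G) : Set G) := by
    intro g hg
    have h1 : o2 (centralizer ({z} : Set G)) ≤ (S : Subgroup G) :=
      ZN.o2_le_of_sylow (S_le_C h) S.isPGroup' (Basic.not_dvd_relIndex S (S_le_C h))
    have h2 := cj_mono (g := g) (h1.trans h.S_le)
    rw [cj_normalizer] at h2
    refine le_trans ?_ h2
    intro y hy
    rw [mem_cj]
    exact Four.conj_mem' (hCn hg) hy
  have hone : cj (1 : G) U = U := cj_one U
  have hUc : U ≤ normalizer ((cj c U : Subgroup G) : Set G) := hD.trans (hSsyl c hc)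
  have hcU : cj c U ≤ normalizer (U : Set G) := by
    have := hSsyl 1 (one_mem _)
    rw [hone] at this
    exact (ho2 c hc).trans this
  by_contra hab
  -- the symmetric statement
  have hsym : ∀ u ∈ U, ∀ u' ∈ U, (∃ y ∈ cj c U, u * y ≠ y * u) → (∃ y ∈ cj c U, u' * y ≠ y * u') →
      ∀ y ∈ cj c U, (u * u') * y = y * (u * u') := by
    intro u hu u' hu' h1 h2 y hy
    have hci : c⁻¹ ∈ centralizer ({z} : Set G) := inv_mem hc
    have hciM : c⁻¹ ∉ normalizer (U : Set G) := fun h0 => hcM (by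
      have := inv_mem h0
      rwa [inv_inv] at this)
    have h3 : U ≤ normalizer ((cj c⁻¹ U : Subgroup G) : Set G) := hD.trans (hSsyl _ hci)
    have h4 : cj c⁻¹ U ≤ normalizer (U : Set G) := by
      have := hSsyl 1 (one_mem _)
      rw [hone] at this
      exact (ho2 _ hci).trans this
    have hconj : ∀ v ∈ U, c⁻¹ * v * c ∈ cj c⁻¹ U := by
      intro v hv
      rw [mem_cj, inv_inv]
      have e : c * (c⁻¹ * v * c) * c⁻¹ = v := by group
      rwa [e]
    have htr : ∀ v : G, (∃ y ∈ cj c U, v * y ≠ y * v) →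
        ∃ a ∈ U, a * (c⁻¹ * v * c) ≠ (c⁻¹ * v * c) * a := by
      rintro v ⟨y, hy, hvy⟩
      refine ⟨c⁻¹ * y * c, mem_cj.mp hy, fun h0 => hvy ?_⟩
      calc v * y = c * ((c⁻¹ * v * c) * (c⁻¹ * y * c)) * c⁻¹ := by group
        _ = c * ((c⁻¹ * y * c) * (c⁻¹ * v * c)) * c⁻¹ := by rw [h0]
        _ = y * v := by group
    have h5 := comm_of_two h hciM h3 h4 (hconj u hu) (hconj u' hu') (htr u h1) (htr u' h2)
      (c⁻¹ * y * c) (mem_cj.mp hy)
    calc (u * u') * y = c * (((c⁻¹ * u * c) * (c⁻¹ * u' * c)) * (c⁻¹ * y * c)) * c⁻¹ := by group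
      _ = c * ((c⁻¹ * y * c) * ((c⁻¹ * u * c) * (c⁻¹ * u' * c))) * c⁻¹ := by rw [h5]
      _ = y * (u * u') := by group
  -- `b` moves `V i`
  obtain ⟨i⟩ : Nonempty (Fin n) := ⟨⟨0, by have := h.two_le; omega⟩⟩
  have hmv := moves_all h hcM hUc hb (hcU hb) ha hab i
  have hnc : ∀ v ∈ V i, v ≠ 1 → v * b ≠ b * v := by
    intro v hv hv1 h0
    apply hmv
    obtain ⟨j, hj⟩ := h.perm b (hcU hb) i
    have hj' : cj b (V i) = V j := hj
    have h1 : v ∈ V j := by
      rw [← hj]
      exact ⟨v, hv, Four.conj_eq_iff_comm.mpr h0.symm⟩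
    rw [hj', ← eq_of_mem h hv h1 hv1]
  obtain ⟨v, hv, hv1, hvx⟩ := Four.exists_other (h.card i) (x i)
  have hxv : x i * v ≠ 1 := by
    intro h0
    apply hvx
    have hxx := vsq h i _ (xV h i)
    rw [pow_two] at hxx
    calc v = (x i * x i) * v := by rw [hxx, one_mul]
      _ = x i * (x i * v) := by group
      _ = x i := by rw [h0, mul_one]
  exact hnc _ (mul_mem (xV h i) hv) hxv (hsym _ (V_le h i (xV h i)) _ (V_le h i hv)
    ⟨b, hb, hnc _ (xV h i) (x1 h i)⟩ ⟨b, hb, hnc _ hv hv1⟩ b hb)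

/-- **From (Omega) to the abstract setting.** -/
theorem main (hA : Amb G) (h : Omega S V x U z) (hD : U ≤ o2 (centralizer ({z} : Set G))) :
    Om V U z where
  two := by
    obtain ⟨j, hj⟩ := exists_ne h ⟨0, by have := h.two_le; omega⟩
    exact ⟨_, j, hj.symm⟩
  card := h.card
  indep := h.indep
  U_eq := h.U_eq.symm
  comm := h.comm
  sq := fun a ha => by rw [← pow_two]; exact h.sq a ha
  perm := h.perm
  z_mem := z_mem h
  z_full := z_full h
  not_le := h.not_le
  cent_le := h.cent_le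
  cent_V := fun i v hv hv1 => cent_V h i hv hv1
  TI := TI h
  inter := inter h
  uc := fun c hc a ha b hb => uc h hD hc ha hb
  syl := ⟨(S : Subgroup G), h.S_le, S_le_C h, Basic.not_dvd_relIndex S (S_le_C h)⟩
  solv := by
    have hz2 : z ^ 2 = 1 := h.sq z (z_mem h)
    have h1 := hA.solv _ (Basic.isTwoLocal_normalizer (Basic.isPGroup_zpowers hz2)
      (fun h0 => z_ne h (zpowers_eq_bot.mp h0)))
    rwa [Basic.normalizer_zpowers_eq hz2] at h1
  core := by
    intro R hR hle X hXC hXM hXR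
    by_contra hR1
    obtain ⟨i⟩ : Nonempty (Fin n) := ⟨⟨0, by have := h.two_le; omega⟩⟩
    obtain ⟨L, k, hk, -, -, hLM, -⟩ := h.blk i
    apply hXM
    refine hXR.trans (h.local_le _ ((bau_le _).trans (h.S_le.trans hle)) ?_
      ⟨L, k, hLM.trans hle, hk⟩)
    intro h0
    have h1 : R ≤ o2 (normalizer (R : Set G)) := ZN.le_o2 le_normalizer hR le_rfl
    rw [h0, le_bot_iff] at h1
    exact hR1 h1
  t := by
    intro i
    obtain ⟨t, ht, ⟨v, hv, hvt⟩, hj⟩ := h.t i
    have htS := jj_le _ ht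
    exact ⟨t, h.S_le htS, S_le_C h htS, ⟨v, hv, fun h0 => hvt (Four.conj_eq_iff_comm.mpr h0)⟩, hj⟩

end Cfsg.Agent.MinSimple.Omega.Derive
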