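import Mathlib
import Cfsg.Agent.SolvableStructure.MinimalNormal
import Cfsg.Agent.SolvableStructure.AbelianSocle
import Cfsg.Agent.ZN.Block

/-!
# Core theorem T, case (Omega), Step 1: maximal subgroups of odd index of a solvable group
-/

set_option autoImplicit false

namespace Cfsg.Agent.MinSimple.Omega.Prim

open Subgroup Cfsg.Agent.SolvableStructure.MinimalNormal Cfsg.Agent.SolvableStructure.AbelianSocle

variable {Γ : Type*} [Group Γ]

/-- The primitive solvable group `Γ / Q`, `Q` the core of the maximal subgroup `H` of odd index. -/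
theorem prim [Finite Γ] [Group.IsSolvable Γ] {H : Subgroup Γ} (hne : H ≠ ⊤)
    (hmax : ∀ X : Subgroup Γ, H ≤ X → X = H ∨ X = ⊤) (hodd : ¬ 2 ∣ H.index) :
    ∃ (Q N : Subgroup Γ) (p : ℕ), Q.Normal ∧ N.Normal ∧ Q ≤ N ∧ Q ≤ H ∧ Q ≠ N ∧ N ⊓ H = Q ∧
      (∀ g : Γ, ∃ n ∈ N, ∃ h ∈ H, g = n * h) ∧ p.Prime ∧ p ≠ 2 ∧
      (∀ a ∈ N, ∀ b ∈ N, a * b * a⁻¹ * b⁻¹ ∈ Q) ∧ (∀ a ∈ N, a ^ p ∈ Q) ∧
      (∀ d : Γ, (∀ n ∈ N, d * n * d⁻¹ * n⁻¹ ∈ Q) → d ∈ N) ∧
      ∀ X : Subgroup Γ, Q ≤ X → X ≤ N → (∀ h ∈ H, ∀ x ∈ X, h * x * h⁻¹ ∈ X) → X = Q ∨ X = N := by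
  set Q := H.normalCore with hQ
  have hQn : Q.Normal := normalCore_normal H
  have hQH : Q ≤ H := normalCore_le H
  set π := QuotientGroup.mk' Q with hπ
  have hπ1 : ∀ x : Γ, π x = 1 ↔ x ∈ Q := fun x => QuotientGroup.eq_one_iff x
  have hπs : Function.Surjective π := QuotientGroup.mk'_surjective Q
  have hQt : Q ≠ ⊤ := fun h => hne (eq_top_iff.2 (h ▸ hQH))
  have hnt : Nontrivial (Γ ⧸ Q) := QuotientGroup.nontrivial_iff.mpr hQt
  obtain ⟨P, hPn, hPne, -, hPmin⟩ := exists_minimal_normal_le (G := Γ ⧸ Q) (N := ⊤) inferInstance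
    (fun h => (bot_ne_top (α := Subgroup (Γ ⧸ Q))) h.symm)
  have hcomm := comm_of_minimal_normal P hPne hPmin
  obtain ⟨p, hp, hpow⟩ := exists_prime_pow_eq_one P hPne hPmin hcomm
  set N := P.comap π with hN
  have hNn : N.Normal := hPn.comap π
  have hQN : Q ≤ N := by
    intro q hq
    rw [hN, mem_comap, (hπ1 q).2 hq]
    exact one_mem _
  have hQneN : Q ≠ N := by
    intro h
    apply hPne
    rw [eq_bot_iff]
    intro x hx
    obtain ⟨y, rfl⟩ := hπs x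
    have h1 : y ∈ N := hx
    rw [← h] at h1
    rw [mem_bot]
    exact (hπ1 y).2 h1
  have hNH : ¬ N ≤ H := by
    intro h
    have h1 : N ≤ Q := normal_le_normalCore.mpr h
    exact hQneN (le_antisymm hQN h1)
  have hsup : N ⊔ H = ⊤ := by
    rcases hmax (N ⊔ H) le_sup_right with h | h
    · exact absurd (h ▸ le_sup_left) hNH
    · exact h
  have hmul : ∀ g : Γ, ∃ n ∈ N, ∃ h ∈ H, g = n * h := by
    intro g
    have h1 : g ∈ N ⊔ H := by rw [hsup]; exact mem_top g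
    have h2 : g ∈ ((N ⊔ H : Subgroup Γ) : Set Γ) := h1
    rw [normal_mul] at h2
    obtain ⟨n, hn, h, hh, e⟩ := Set.mem_mul.1 h2
    exact ⟨n, hn, h, hh, e.symm⟩
  have hNcomm : ∀ a ∈ N, ∀ b ∈ N, a * b * a⁻¹ * b⁻¹ ∈ Q := by
    intro a ha b hb
    rw [← hπ1, map_mul, map_mul, map_mul, map_inv, map_inv, hcomm (π a) ha (π b) hb]
    group
  -- a subgroup containing `Q`, normalised by `H` and by `N`, contained in `H`, is `Q`
  have hcore : ∀ X : Subgroup Γ, X ≤ H → (∀ h ∈ H, ∀ x ∈ X, h * x * h⁻¹ ∈ X) →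
      (∀ n ∈ N, ∀ x ∈ X, n * x * n⁻¹ ∈ X) → X ≤ Q := by
    intro X hXH hH hN'
    have : X.Normal := by
      constructor
      intro x hx g
      obtain ⟨n, hn, h, hh, rfl⟩ := hmul g
      have e : n * h * x * (n * h)⁻¹ = n * (h * x * h⁻¹) * n⁻¹ := by group
      rw [e]
      exact hN' n hn _ (hH h hh x hx)
    exact normal_le_normalCore.mpr hXH
  have hNHQ : N ⊓ H = Q := by
    apply le_antisymm _ (le_inf hQN hQH)
    apply hcore _ inf_le_right
    · rintro h hh x ⟨hx1, hx2⟩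
      exact ⟨hNn.conj_mem x hx1 h, H.mul_mem (H.mul_mem hh hx2) (H.inv_mem hh)⟩
    · rintro n hn x ⟨hx1, hx2⟩
      refine ⟨hNn.conj_mem x hx1 n, ?_⟩
      have e : n * x * n⁻¹ = n * x * n⁻¹ * x⁻¹ * x := by group
      rw [e]
      exact H.mul_mem (hQH (hNcomm n hn x hx1)) hx2
  have hfaith : ∀ d : Γ, (∀ n ∈ N, d * n * d⁻¹ * n⁻¹ ∈ Q) → d ∈ N := by
    -- the centraliser of `N / Q`
    let X : Subgroup Γ := {
      carrier := {d | d ∈ H ∧ ∀ n ∈ N, d * n * d⁻¹ * n⁻¹ ∈ Q}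
      one_mem' := ⟨H.one_mem, fun n _ => by
        have e : (1 : Γ) * n * 1⁻¹ * n⁻¹ = 1 := by group
        rw [e]; exact Q.one_mem⟩
      mul_mem' := by
        rintro a b ⟨ha, ha'⟩ ⟨hb, hb'⟩
        refine ⟨H.mul_mem ha hb, fun n hn => ?_⟩
        have e : a * b * n * (a * b)⁻¹ * n⁻¹ =
            (a * (b * n * b⁻¹ * n⁻¹) * a⁻¹) * (a * n * a⁻¹ * n⁻¹) := by group
        rw [e]
        exact Q.mul_mem (hQn.conj_mem _ (hb' n hn) a) (ha' n hn)
      inv_mem' := by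
        rintro a ⟨ha, ha'⟩
        refine ⟨H.inv_mem ha, fun n hn => ?_⟩
        have e : a⁻¹ * n * a⁻¹⁻¹ * n⁻¹ = a⁻¹ * (a * n * a⁻¹ * n⁻¹)⁻¹ * a⁻¹⁻¹ := by group
        rw [e]
        exact hQn.conj_mem _ (Q.inv_mem (ha' n hn)) _ }
    have hX : X ≤ Q := by
      apply hcore X (fun x hx => hx.1)
      · rintro h hh x ⟨hx1, hx2⟩
        refine ⟨H.mul_mem (H.mul_mem hh hx1) (H.inv_mem hh), fun n hn => ?_⟩
        have e : h * x * h⁻¹ * n * (h * x * h⁻¹)⁻¹ * n⁻¹ =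
            h * (x * (h⁻¹ * n * h⁻¹⁻¹) * x⁻¹ * (h⁻¹ * n * h⁻¹⁻¹)⁻¹) * h⁻¹ := by group
        rw [e]
        exact hQn.conj_mem _ (hx2 _ (hNn.conj_mem n hn h⁻¹)) h
      · rintro n hn x ⟨hx1, hx2⟩
        have e : n * x * n⁻¹ = (x * n * x⁻¹ * n⁻¹)⁻¹ * x * (x⁻¹ * (x * n * x⁻¹ * n⁻¹) * x⁻¹⁻¹) *
            (x⁻¹ * (x * n * x⁻¹ * n⁻¹) * x⁻¹⁻¹)⁻¹ := by group
        have hq : x * n * x⁻¹ * n⁻¹ ∈ Q := hx2 n hn
        have h1 : n * x * n⁻¹ = (x * n * x⁻¹ * n⁻¹)⁻¹ * x := by group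
        have hmem : n * x * n⁻¹ ∈ H := by
          rw [h1]; exact H.mul_mem (hQH (Q.inv_mem hq)) hx1
        refine ⟨hmem, fun m hm => ?_⟩
        rw [h1]
        -- `q⁻¹ x` centralises `N` modulo `Q`
        have e2 : (x * n * x⁻¹ * n⁻¹)⁻¹ * x * m * ((x * n * x⁻¹ * n⁻¹)⁻¹ * x)⁻¹ * m⁻¹ =
            (x * n * x⁻¹ * n⁻¹)⁻¹ * (x * m * x⁻¹ * m⁻¹) *
              (m * (x * n * x⁻¹ * n⁻¹) * m⁻¹) := by group
        rw [e2]
        exact Q.mul_mem (Q.mul_mem (Q.inv_mem hq) (hx2 m hm)) (hQn.conj_mem _ hq m)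
    intro d hd
    obtain ⟨n, hn, h, hh, rfl⟩ := hmul d
    refine N.mul_mem hn (hQN (hX ⟨hh, fun m hm => ?_⟩))
    have e : h * m * h⁻¹ * m⁻¹ = n⁻¹ * (n * h * m * (n * h)⁻¹ * m⁻¹) * n⁻¹⁻¹ * (n⁻¹ * m * n⁻¹⁻¹ * m⁻¹) := by group
    rw [e]
    exact Q.mul_mem (hQn.conj_mem _ (hd m hm) _) (hNcomm n⁻¹ (N.inv_mem hn) m hm)
  have hp2 : p ≠ 2 := by
    rintro rfl
    apply hodd
    -- `|N : Q| = |Γ : H|` is a power of 2, not 1
    have h2 : Q.relIndex N = H.index := by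
      have e1 := Cfsg.Agent.ZN.Block.card_sup_mul_card_inf (H := H) (N := N)
        (le_normalizer_of_normal)
      rw [sup_comm, hsup, inf_comm, hNHQ, card_top] at e1
      have e2 := Cfsg.Agent.ZN.Block.card_mul_relIndex' hQN
      have e3 := H.card_mul_index
      rw [← e3, ← e2] at e1
      have h4 : 0 < Nat.card H := Nat.card_pos
      have h5 : 0 < Nat.card Q := Nat.card_pos
      have e4 : Nat.card H * Nat.card Q * H.index = Nat.card H * Nat.card Q * Q.relIndex N := by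
        calc Nat.card H * Nat.card Q * H.index = Nat.card H * H.index * Nat.card Q := by ring
          _ = _ := by rw [e1]; ring
      exact (Nat.eq_of_mul_eq_mul_left (Nat.mul_pos h4 h5) e4).symm
    obtain ⟨d, hd, hcard⟩ := exists_card_eq_prime_pow P hPne Nat.prime_two hpow
    have h3 : Q.relIndex N = Nat.card P := by
      have h4 : N.map π = P := map_comap_eq_self_of_surjective hπs P
      have h5 : Nat.card (N.map π) = (π.ker.subgroupOf N).index := by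
        have h6 : N.map π = (π.domRestrict N).range := (MonoidHom.domRestrict_range N π).symm
        rw [h6, ← Subgroup.index_ker, MonoidHom.ker_domRestrict]
      rw [h4] at h5
      rw [h5, hπ, QuotientGroup.ker_mk']
      rfl
    rw [← h2, h3, hcard]
    exact dvd_pow_self 2 hd.ne'
  refine ⟨Q, N, p, hQn, hNn, hQN, hQH, hQneN, hNHQ, hmul, hp, hp2, hNcomm, ?_, hfaith, ?_⟩
  · intro a ha
    rw [← hπ1, map_pow]
    exact hpow _ ha
  · intro X hQX hXN hH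
    rcases hmax (X ⊔ H) le_sup_right with h | h
    · left
      have h1 : X ≤ H := h ▸ le_sup_left
      exact le_antisymm (hNHQ ▸ le_inf hXN h1) hQX
    · right
      apply le_antisymm hXN
      have hHX : H ≤ normalizer (X : Set Γ) := Cfsg.Agent.ZN.Block.le_normalizer_of_forall hH
      intro n hn
      have h1 : n ∈ X ⊔ H := by rw [h]; exact mem_top n
      rw [sup_comm] at h1
      have h2 : n ∈ ((H ⊔ X : Subgroup Γ) : Set Γ) := h1
      rw [coe_mul_of_left_le_normalizer_right H X hHX] at h2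
      obtain ⟨k, hk, x, hx, rfl⟩ := Set.mem_mul.1 h2
      have h3 : k ∈ N := by
        have := N.mul_mem hn (N.inv_mem (hXN hx))
        rwa [mul_inv_cancel_right] at this
      have h4 : k ∈ Q := hNHQ ▸ (⟨h3, hk⟩ : k ∈ N ⊓ H)
      exact X.mul_mem (hQX h4) hx

end Cfsg.Agent.MinSimple.Omega.Prim
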