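import Mathlib
import Cfsg.Agent.MinSimple.Omega.Defs
import Cfsg.Agent.MinSimple.Omega.Prim
import Cfsg.Agent.MinSimple.OmPair

/-!
# Core theorem T, case (Omega), Steps 1 and 2: the noncommuting pair

`main : Om V U z → ∃ ..., OmPair.Pair ...`
-/

set_option autoImplicit false

namespace Cfsg.Agent.MinSimple.Omega.MakePair

open Subgroup Cfsg.Agent.MinSimple.Geo Cfsg.Agent.MinSimple.Omega.Defs Cfsg.Agent.MinSimple.OmPair

universe u

variable {G : Type u} [Group G]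

/-! ### general lemmas -/

theorem sSup_comm {𝒮 : Set (Subgroup G)}
    (h : ∀ X ∈ 𝒮, ∀ Y ∈ 𝒮, ∀ a ∈ X, ∀ b ∈ Y, a * b = b * a) :
    ∀ a ∈ sSup 𝒮, ∀ b ∈ sSup 𝒮, a * b = b * a := by
  have h1 : ∀ X ∈ 𝒮, ∀ a ∈ X, ∀ b ∈ sSup 𝒮, b * a = a * b := by
    intro X hX a ha
    have h2 : sSup 𝒮 ≤ centralizer ({a} : Set G) := sSup_le fun Y hY b hb =>
      mem_centralizer_singleton_iff.2 (h Y hY X hX b hb a ha)
    intro b hb
    exact mem_centralizer_singleton_iff.1 (h2 hb)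
  intro a ha b hb
  have h2 : sSup 𝒮 ≤ centralizer ({b} : Set G) := sSup_le fun X hX x hx =>
    mem_centralizer_singleton_iff.2 (h1 X hX x hx b hb).symm
  exact mem_centralizer_singleton_iff.1 (h2 ha)

theorem sSup_sq {𝒮 : Set (Subgroup G)}
    (h : ∀ X ∈ 𝒮, ∀ Y ∈ 𝒮, ∀ a ∈ X, ∀ b ∈ Y, a * b = b * a) (h2 : ∀ X ∈ 𝒮, ∀ a ∈ X, a * a = 1) :
    ∀ a ∈ sSup 𝒮, a * a = 1 := by
  let D : Subgroup G := {
    carrier := {p | p ∈ sSup 𝒮 ∧ p * p = 1}
    one_mem' := ⟨one_mem _, one_mul 1⟩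
    mul_mem' := by
      rintro x y ⟨hx, hx2⟩ ⟨hy, hy2⟩
      refine ⟨mul_mem hx hy, ?_⟩
      calc x * y * (x * y) = x * (y * x) * y := by group
        _ = x * (x * y) * y := by rw [sSup_comm h y hy x hx]
        _ = (x * x) * (y * y) := by group
        _ = 1 := by rw [hx2, hy2, one_mul]
    inv_mem' := by
      rintro x ⟨hx, hx2⟩
      exact ⟨inv_mem hx, by rw [← mul_inv_rev, hx2, inv_one]⟩ }
  have h1 : sSup 𝒮 ≤ D := sSup_le fun X hX x hx => ⟨le_sSup hX hx, h2 X hX x hx⟩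
  intro a ha
  exact (h1 ha).2

/-- conjugating a commuting pair -/
theorem comm_conj {X Y : Subgroup G} (g : G) (h : ∀ a ∈ X, ∀ b ∈ Y, a * b = b * a) :
    ∀ a ∈ cj g X, ∀ b ∈ cj g Y, a * b = b * a := by
  rintro _ ⟨a, ha, rfl⟩ _ ⟨b, hb, rfl⟩
  rw [← map_mul, ← map_mul, h a ha b hb]

theorem comm_conj_iff {X Y : Subgroup G} (g : G) :
    (∀ a ∈ cj g X, ∀ b ∈ cj g Y, a * b = b * a) ↔ ∀ a ∈ X, ∀ b ∈ Y, a * b = b * a := by
  refine ⟨fun h => ?_, comm_conj g⟩
  have := comm_conj g⁻¹ h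
  rwa [cj_inv_cj, cj_inv_cj] at this

theorem cj_iSup {ι : Sort*} (g : G) (X : ι → Subgroup G) : cj g (⨆ i, X i) = ⨆ i, cj g (X i) :=
  Subgroup.map_iSup _ _

theorem mem_centralizer_cj {g z x : G} : x ∈ centralizer ({g * z * g⁻¹} : Set G) ↔
    g⁻¹ * x * g ∈ centralizer ({z} : Set G) := by
  rw [← cj_centralizer_singleton, mem_cj]

theorem mem_normalizer_cj {g x : G} {X : Subgroup G} : x ∈ normalizer ((cj g X : Subgroup G) : Set G) ↔
    g⁻¹ * x * g ∈ normalizer (X : Set G) := by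
  rw [← cj_normalizer, mem_cj]

/-! ### `Fam` -/

section Fam

variable {k : ℕ} {V : Fin k → Subgroup G} {U : Subgroup G} {z : G}

/-- conjugates of the full elements of `U` -/
def full (V : Fin k → Subgroup G) (U : Subgroup G) : Set G :=
  {x | ∃ g : G, g⁻¹ * x * g ∈ U ∧ ∀ i, g⁻¹ * x * g ∉ co V i}

theorem V_le (h : Om V U z) (i : Fin k) : V i ≤ U := h.U_eq ▸ le_iSup V i

theorem co_le (h : Om V U z) (i : Fin k) : co V i ≤ U :=
  h.U_eq ▸ iSup_le fun j => le_iSup V (j : Fin k)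

theorem V_le_co {V : Fin k → Subgroup G} {i j : Fin k} (hij : j ≠ i) : V j ≤ co V i :=
  le_iSup (fun j : {j : Fin k // j ≠ i} => V j) ⟨j, hij⟩

theorem cj_co (g : G) (V : Fin k → Subgroup G) (i : Fin k) :
    cj g (co V i) = ⨆ j : {j : Fin k // j ≠ i}, cj g (V j) := cj_iSup _ _

theorem V_ne_bot (h : Om V U z) (i : Fin k) : V i ≠ ⊥ := by
  intro e
  have := h.card i
  rw [e, Subgroup.card_bot] at this
  omega

/-- if `m` moves some `V i` into `U`, then `m ∈ M` -/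
theorem mem_M_of_le (h : Om V U z) {m : G} {j : Fin k} (hm : cj m (V j) ≤ U) : m ∈ normalizer (U : Set G) := by
  obtain ⟨i, hij⟩ : ∃ i, j ≠ i := by
    obtain ⟨a, b, hab⟩ := h.two
    by_cases e : j = a
    · exact ⟨b, by rw [e]; exact hab⟩
    · exact ⟨a, e⟩
  by_contra hcon
  have h1 : m⁻¹ ∉ normalizer (U : Set G) := fun h' => hcon (inv_mem_iff.1 h')
  have h2 := h.inter m⁻¹ h1 i
  apply V_ne_bot h j
  rw [eq_bot_iff, ← h2]
  refine le_inf (V_le_co hij) ?_
  rw [← cj_le_iff]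
  exact hm

/-- `M` permutes the full elements -/
theorem co_conj (h : Om V U z) {m : G} (hm : m ∈ normalizer (U : Set G)) (i : Fin k) :
    ∃ j, cj m (co V i) ≤ co V j := by
  obtain ⟨j, hj⟩ := h.perm m hm i
  refine ⟨j, ?_⟩
  rw [cj_co]
  refine iSup_le fun l => ?_
  obtain ⟨l', hl'⟩ := h.perm m hm l
  rw [hl']
  refine V_le_co ?_
  rintro rfl
  have h1 : cj m (V l) = cj m (V i) := by rw [hl', hj]
  have h2 : V l = V i := by
    have := congrArg (cj m⁻¹) h1
    rwa [cj_inv_cj, cj_inv_cj] at this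
  have h3 : Disjoint (V l) (V i) := by
    have := h.indep.pairwiseDisjoint (i := (l : Fin k)) (j := i) l.2
    exact this
  rw [h2, disjoint_self] at h3
  exact V_ne_bot h i h3

theorem full_iff (h : Om V U z) {w : G} (hw : w ∈ U) : w ∈ full V U ↔ ∀ i, w ∉ co V i := by
  constructor
  · rintro ⟨g, hg, hfull⟩ i hwi
    by_cases hgM : g ∈ normalizer (U : Set G)
    · obtain ⟨j, hj⟩ := co_conj h (inv_mem hgM) i
      apply hfull j
      apply hj
      rw [mem_cj]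
      have e : g⁻¹⁻¹ * (g⁻¹ * w * g) * g⁻¹ = w := by group
      rw [e]; exact hwi
    · have h1 : w ∈ co V i ⊓ cj g U := ⟨hwi, mem_cj.2 hg⟩
      rw [h.inter g hgM i, mem_bot] at h1
      apply hfull i
      rw [h1]
      have e : g⁻¹ * 1 * g = 1 := by group
      rw [e]; exact one_mem _
  · intro hfull
    refine ⟨1, ?_, fun i => ?_⟩
    · have e : (1 : G)⁻¹ * w * 1 = w := by group
      rw [e]; exact hw
    · have e : (1 : G)⁻¹ * w * 1 = w := by group
      rw [e]; exact hfull i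

theorem full_conj {V : Fin k → Subgroup G} {U : Subgroup G} (g : G) {x : G} :
    g * x * g⁻¹ ∈ full V U ↔ x ∈ full V U := by
  constructor
  · rintro ⟨a, h1, h2⟩
    have e : a⁻¹ * (g * x * g⁻¹) * a = (g⁻¹ * a)⁻¹ * x * (g⁻¹ * a) := by group
    rw [e] at h1
    refine ⟨g⁻¹ * a, h1, fun i => ?_⟩
    rw [← e]; exact h2 i
  · rintro ⟨a, h1, h2⟩
    have e : a⁻¹ * x * a = (g * a)⁻¹ * (g * x * g⁻¹) * (g * a) := by group
    rw [e] at h1
    refine ⟨g * a, h1, fun i => ?_⟩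
    rw [← e]; exact h2 i

theorem iSupIndep_cj (h : iSupIndep V) (g : G) : iSupIndep fun i => cj g (V i) := by
  intro i
  have h1 := h i
  rw [disjoint_iff] at h1 ⊢
  have e : ⨆ (j) (_ : j ≠ i), cj g (V j) = cj g (⨆ (j) (_ : j ≠ i), V j) := by
    rw [cj_iSup]
    congr 1
    funext j
    rw [cj_iSup]
  rw [e, ← cj_inf, h1]
  exact Subgroup.map_bot _

theorem fam (h : Om V U z) : Fam k {X | ∃ g : G, X = cj g U} {Y | ∃ (g : G) (i : Fin k), Y = cj g (V i)}
    (full V U) where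
  two_le := by
    obtain ⟨a, b, hab⟩ := h.two
    have h1 : (a : ℕ) ≠ b := fun e => hab (Fin.ext e)
    have := a.2
    have := b.2
    omega
  cjU := by
    rintro g X ⟨a, rfl⟩
    exact ⟨g * a, cj_cj _ _ _⟩
  cjV := by
    rintro g X ⟨a, i, rfl⟩
    exact ⟨g * a, i, cj_cj _ _ _⟩
  cjF := fun g x hx => (full_conj g).2 hx
  comm := by
    rintro X ⟨g, rfl⟩
    exact comm_conj g h.comm
  sq := by
    rintro X ⟨g, rfl⟩ _ ⟨a, ha, rfl⟩
    rw [← map_mul, h.sq a ha, map_one]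
  card := by
    rintro Y ⟨g, i, rfl⟩
    rw [card_cj, h.card i]
  frame := by
    rintro X ⟨g, rfl⟩
    refine ⟨fun i => cj g (V i), fun i => ⟨g, i, rfl⟩, ?_, iSupIndep_cj h.indep g, ?_, ?_⟩
    · rw [← h.U_eq, cj_iSup]
    · rintro Y ⟨a, j, rfl⟩ hle
      have h1 : cj (g⁻¹ * a) (V j) ≤ U := by
        rw [← cj_cj]
        have := cj_mono (g := g⁻¹) hle
        rwa [cj_inv_cj] at this
      obtain ⟨l, hl⟩ := h.perm _ (mem_M_of_le h h1) j
      refine ⟨l, ?_⟩
      change cj a (V j) = cj g (V l)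
      rw [← hl, cj_cj, mul_inv_cancel_left]
    · intro u hu
      have hu' : g⁻¹ * u * g ∈ U := mem_cj.1 hu
      have e : g * (g⁻¹ * u * g) * g⁻¹ = u := by group
      have h1 : u ∈ full V U ↔ g⁻¹ * u * g ∈ full V U := by
        have h2 := full_conj (V := V) (U := U) g (x := g⁻¹ * u * g)
        rwa [e] at h2
      rw [h1, full_iff h hu']
      refine forall_congr' fun i => not_congr ?_
      rw [← mem_cj, cj_co]
  cent := by
    rintro X ⟨g, rfl⟩ u hu hu1 huF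
    have hu' : g⁻¹ * u * g ∈ U := mem_cj.1 hu
    have e : g * (g⁻¹ * u * g) * g⁻¹ = u := by group
    have h1 : ¬ ∀ i, g⁻¹ * u * g ∉ co V i := by
      rw [← full_iff h hu', ← full_conj g, e]; exact huF
    push Not at h1
    obtain ⟨i, hi⟩ := h1
    have h2 := h.cent_le i _ hi (by
      intro e'
      rw [e'] at e
      apply hu1
      rw [← e]; group)
    have h3 := cj_mono (g := g) h2
    rw [cj_centralizer_singleton, cj_normalizer, e] at h3
    exact h3
  inter := by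
    rintro X ⟨g, rfl⟩ Y ⟨a, rfl⟩ u hu hu' hu1 huF
    have hw : g⁻¹ * u * g ∈ U := mem_cj.1 hu
    have e : g * (g⁻¹ * u * g) * g⁻¹ = u := by group
    have h1 : ¬ ∀ i, g⁻¹ * u * g ∉ co V i := by
      rw [← full_iff h hw, ← full_conj g, e]; exact huF
    push Not at h1
    obtain ⟨i, hi⟩ := h1
    have h2 : g⁻¹ * a ∈ normalizer (U : Set G) := by
      by_contra hcon
      have h3 : g⁻¹ * u * g ∈ co V i ⊓ cj (g⁻¹ * a) U := by
        refine ⟨hi, mem_cj.2 ?_⟩
        rw [mem_cj] at hu'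
        have e2 : (g⁻¹ * a)⁻¹ * (g⁻¹ * u * g) * (g⁻¹ * a) = a⁻¹ * u * a := by group
        rw [e2]; exact hu'
      rw [h.inter _ hcon i, mem_bot] at h3
      rw [h3] at e
      apply hu1
      rw [← e]; group
    rw [mem_normalizer_iff_cj] at h2
    have h3 := congrArg (cj g) h2
    rw [cj_cj, mul_inv_cancel_left] at h3
    exact h3.symm

end Fam

/-! ### Step 1 -/

section StepOne

variable {k : ℕ} {V : Fin k → Subgroup G} {U : Subgroup G} {z : G}

/-- a subgroup `D`, `M ∩ C < D ≤ C`, with `M ∩ C` maximal in `D` -/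
theorem exists_D [Finite G] (h : Om V U z) : ∃ D : Subgroup G, D ≤ centralizer ({z} : Set G) ∧
    normalizer (U : Set G) ⊓ centralizer ({z} : Set G) ≤ D ∧ ¬ D ≤ normalizer (U : Set G) ∧
    ∀ X : Subgroup G, normalizer (U : Set G) ⊓ centralizer ({z} : Set G) ≤ X → X ≤ D →
      X = normalizer (U : Set G) ⊓ centralizer ({z} : Set G) ∨ X = D := by
  obtain ⟨D, hD⟩ := (Set.toFinite {D : Subgroup G | D ≤ centralizer ({z} : Set G) ∧
    normalizer (U : Set G) ⊓ centralizer ({z} : Set G) ≤ D ∧ ¬ D ≤ normalizer (U : Set G)}).exists_minimal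
    ⟨centralizer ({z} : Set G), le_rfl, inf_le_right, h.not_le⟩
  refine ⟨D, hD.1.1, hD.1.2.1, hD.1.2.2, fun X h1 h2 => ?_⟩
  by_cases h3 : X ≤ normalizer (U : Set G)
  · exact Or.inl (le_antisymm (le_inf h3 (h2.trans hD.1.1)) h1)
  · exact Or.inr (le_antisymm h2 (hD.2 ⟨h2.trans hD.1.1, h1, h3⟩ h2))

/-- the subgroup generated by the blocks on a vertex -/
def ww (D U : Subgroup G) : Subgroup G := ⨆ d : D, cj (d : G) U

theorem le_ww {D U : Subgroup G} {d : G} (hd : d ∈ D) : cj d U ≤ ww D U :=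
  le_iSup (fun d : D => cj (d : G) U) ⟨d, hd⟩

theorem ww_le {D U X : Subgroup G} (h : ∀ d ∈ D, cj d U ≤ X) : ww D U ≤ X :=
  iSup_le fun d => h d d.2

theorem ww_comm (h : Om V U z) {D : Subgroup G} (hD : D ≤ centralizer ({z} : Set G)) :
    ∀ a ∈ ww D U, ∀ b ∈ ww D U, a * b = b * a := by
  apply sSup_comm
  rintro _ ⟨⟨c, hc⟩, rfl⟩ _ ⟨⟨d, hd⟩, rfl⟩
  change ∀ a ∈ cj c U, ∀ b ∈ cj d U, a * b = b * a
  have h1 : cj d U = cj c (cj (c⁻¹ * d) U) := by rw [cj_cj, mul_inv_cancel_left]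
  rw [h1]
  exact comm_conj c (h.uc _ (hD (mul_mem (inv_mem hc) hd)))

theorem vert [Finite G] (h : Om V U z) {D : Subgroup G} (hD : D ≤ centralizer ({z} : Set G))
    (hMD : normalizer (U : Set G) ⊓ centralizer ({z} : Set G) ≤ D) (hDM : ¬ D ≤ normalizer (U : Set G))
    (hmax : ∀ X : Subgroup G, normalizer (U : Set G) ⊓ centralizer ({z} : Set G) ≤ X → X ≤ D →
      X = normalizer (U : Set G) ⊓ centralizer ({z} : Set G) ∨ X = D) :
    ∃ (N Q : Subgroup G) (p : ℕ), Vert {X | ∃ g : G, X = cj g U}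
      {Y | ∃ (g : G) (i : Fin k), Y = cj g (V i)} (full V U) D N Q U (ww D U) z p := by
  set H := normalizer (U : Set G) ⊓ centralizer ({z} : Set G) with hH
  have hsol : Group.IsSolvable D := by
    have := h.solv
    exact Group.isSolvable_of_isSolvable_injective (f := Subgroup.inclusion hD) (Subgroup.inclusion_injective hD)
  have hHne : H.subgroupOf D ≠ ⊤ := by
    intro e
    rw [subgroupOf_eq_top] at e
    exact hDM (e.trans inf_le_left)
  have hHmax : ∀ X : Subgroup D, H.subgroupOf D ≤ X → X = H.subgroupOf D ∨ X = ⊤ := by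
    intro X hX
    have h1 : H ≤ X.map D.subtype := by
      intro x hx
      exact ⟨⟨x, hMD hx⟩, hX (mem_subgroupOf.2 hx), rfl⟩
    rcases hmax _ h1 (map_subtype_le X) with h2 | h2
    · left
      ext x
      rw [mem_subgroupOf, ← h2]
      constructor
      · intro hx; exact ⟨x, hx, rfl⟩
      · rintro ⟨y, hy, e⟩
        rwa [← Subtype.ext e]
    · right
      rw [eq_top_iff]
      intro x _
      have h3 : (x : G) ∈ X.map D.subtype := by rw [h2]; exact x.2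
      obtain ⟨y, hy, e⟩ := h3
      rwa [← Subtype.ext e]
  have hodd : ¬ 2 ∣ (H.subgroupOf D).index := by
    obtain ⟨T, hTM, hTC, hT⟩ := h.syl
    intro h2
    apply hT
    have hTH : T ≤ H := le_inf hTM hTC
    have h3 : T.relIndex H * H.relIndex D = T.relIndex D := relIndex_mul_relIndex _ _ _ hTH hMD
    have h4 : T.relIndex D * D.relIndex (centralizer ({z} : Set G)) =
      T.relIndex (centralizer ({z} : Set G)) := relIndex_mul_relIndex _ _ _ (hTH.trans hMD) hD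
    rw [← h4, ← h3]
    exact (Dvd.dvd.mul_left h2 _).mul_right _
  obtain ⟨Q, N, p, hQn, hNn, hQN, hQH, hQne, hNH, hmul, hp, hp2, hcomm, hpow, hfaith, hirr⟩ :=
    Prim.prim (Γ := D) hHne hHmax hodd
  have memQ : ∀ {x : G} (hx : x ∈ D), x ∈ Q.map D.subtype ↔ (⟨x, hx⟩ : D) ∈ Q := by
    intro x hx
    constructor
    · rintro ⟨y, hy, e⟩
      have : y = ⟨x, hx⟩ := Subtype.ext e
      rwa [← this]
    · intro h1; exact ⟨_, h1, rfl⟩
  have memN : ∀ {x : G} (hx : x ∈ D), x ∈ N.map D.subtype ↔ (⟨x, hx⟩ : D) ∈ N := by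
    intro x hx
    constructor
    · rintro ⟨y, hy, e⟩
      have : y = ⟨x, hx⟩ := Subtype.ext e
      rwa [← this]
    · intro h1; exact ⟨_, h1, rfl⟩
  have hND : N.map D.subtype ≤ D := map_subtype_le N
  have hQD : Q.map D.subtype ≤ D := map_subtype_le Q
  refine ⟨N.map D.subtype, Q.map D.subtype, p, ?_⟩
  exact {
    U0_mem := ⟨1, (cj_one U).symm⟩
    z_mem := h.z_mem
    z_F := (full_iff h h.z_mem).2 h.z_full
    D_le := hD
    stab := fun g hg hgz => hMD ⟨hg, mem_centralizer_singleton_iff.2 hgz⟩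
    t := by
      obtain ⟨i, -, -⟩ := h.two
      obtain ⟨t, htM, htC, ht1, ht2⟩ := h.t i
      refine ⟨V i, ⟨1, i, (cj_one _).symm⟩, V_le h i, t, htM, mem_centralizer_singleton_iff.1 htC, ht1, ?_⟩
      rintro V' ⟨g, j, rfl⟩ hle hne
      obtain ⟨l, hl⟩ := h.perm g (mem_M_of_le h hle) j
      rw [hl] at hne ⊢
      exact ht2 l (fun e => hne (by rw [e]))
    W_ge := fun d hd => le_ww hd
    W_le := fun X hX => ww_le hX
    W_comm := ww_comm h hD
    N_le := hND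
    Q_le := Subgroup.map_mono hQN
    N_norm := by
      rintro d hd n hn
      have hn' := (memN (hND hn)).1 hn
      exact (memN (mul_mem (mul_mem hd (hND hn)) (inv_mem hd))).2 (hNn.conj_mem _ hn' ⟨d, hd⟩)
    Q_norm := by
      rintro d hd n hn
      have hn' := (memQ (hQD hn)).1 hn
      exact (memQ (mul_mem (mul_mem hd (hQD hn)) (inv_mem hd))).2 (hQn.conj_mem _ hn' ⟨d, hd⟩)
    prime := hp
    odd := hp2
    N_comm := by
      intro a ha b hb
      have ha' := (memN (hND ha)).1 ha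
      have hb' := (memN (hND hb)).1 hb
      exact ⟨_, hcomm _ ha' _ hb', rfl⟩
    N_pow := by
      intro a ha
      have ha' := (memN (hND ha)).1 ha
      exact ⟨_, hpow _ ha', rfl⟩
    ne := by
      intro e
      exact hQne (Subgroup.map_injective D.subtype_injective e)
    Q_fix := by
      rintro _ ⟨q, hq, rfl⟩
      exact (mem_subgroupOf.1 (hQH hq)).1
    N_fix := by
      rintro _ ⟨n, hn, rfl⟩ hnU
      refine ⟨n, ?_, rfl⟩
      rw [← hNH]
      exact ⟨hn, mem_subgroupOf.2 ⟨hnU, hD n.2⟩⟩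
    trans := by
      intro d hd
      obtain ⟨n, hn, m, hm, e⟩ := hmul ⟨d, hd⟩
      exact ⟨n, ⟨n, hn, rfl⟩, m, m.2, (mem_subgroupOf.1 hm).1, congrArg Subtype.val e⟩
    faith := by
      intro d hd hd'
      refine (memN hd).2 (hfaith _ fun n hn => ?_)
      have h1 := hd' n ⟨n, hn, rfl⟩
      exact (memQ (mul_mem (mul_mem (mul_mem hd n.2) (inv_mem hd)) (inv_mem n.2))).1 h1
    irr := by
      intro X hQX hXN hX
      have hXD : X ≤ D := hXN.trans hND
      have h1 : Q ≤ X.subgroupOf D := fun q hq => mem_subgroupOf.2 (hQX ⟨q, hq, rfl⟩)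
      have h2 : X.subgroupOf D ≤ N := fun x hx => (memN x.2).1 (hXN (mem_subgroupOf.1 hx))
      have h3 : (X.subgroupOf D).map D.subtype = X := by
        rw [subgroupOf_map_subtype, inf_eq_left.2 hXD]
      rcases hirr _ h1 h2 (fun m hm x hx => mem_subgroupOf.2
        (hX m m.2 (mem_subgroupOf.1 hm).1 x (mem_subgroupOf.1 hx))) with h4 | h4
      · left; rw [← h3, h4]
      · right; rw [← h3, h4] }

end StepOne

/-! ### conjugation of a vertex -/

theorem mem_cj' {g x : G} {X : Subgroup G} : x ∈ cj g X ↔ ∃ y ∈ X, x = g * y * g⁻¹ := by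
  constructor
  · rintro ⟨y, hy, rfl⟩; exact ⟨y, hy, rfl⟩
  · rintro ⟨y, hy, rfl⟩; exact conj_mem_cj hy

theorem vert_conj {k : ℕ} {UU VV : Set (Subgroup G)} {F : Set G} {D N Q U0 W : Subgroup G} {z : G} {p : ℕ}
    (hf : Fam k UU VV F) (h : Vert UU VV F D N Q U0 W z p) (g : G) :
    Vert UU VV F (cj g D) (cj g N) (cj g Q) (cj g U0) (cj g W) (g * z * g⁻¹) p where
  U0_mem := hf.cjU g _ h.U0_mem
  z_mem := conj_mem_cj h.z_mem
  z_F := hf.cjF g _ h.z_F
  D_le := by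
    rw [← cj_centralizer_singleton]
    exact cj_mono h.D_le
  stab := by
    intro x hx hxz
    refine mem_cj.2 (h.stab _ (mem_normalizer_cj.1 hx) ?_)
    calc g⁻¹ * x * g * z = g⁻¹ * (x * (g * z * g⁻¹)) * g := by group
      _ = g⁻¹ * (g * z * g⁻¹ * x) * g := by rw [hxz]
      _ = _ := by group
  t := by
    obtain ⟨V, hV, hVU, t, ht, htz, ⟨v, hv, hv'⟩, ht2⟩ := h.t
    refine ⟨cj g V, hf.cjV g _ hV, cj_mono hVU, g * t * g⁻¹, ?_, ?_, ⟨g * v * g⁻¹, conj_mem_cj hv, ?_⟩, ?_⟩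
    · rw [mem_normalizer_cj]
      have e : g⁻¹ * (g * t * g⁻¹) * g = t := by group
      rw [e]; exact ht
    · calc g * t * g⁻¹ * (g * z * g⁻¹) = g * (t * z) * g⁻¹ := by group
        _ = g * (z * t) * g⁻¹ := by rw [htz]
        _ = _ := by group
    · intro e
      apply hv'
      calc t * v = g⁻¹ * (g * t * g⁻¹ * (g * v * g⁻¹)) * g := by group
        _ = g⁻¹ * (g * v * g⁻¹ * (g * t * g⁻¹)) * g := by rw [e]
        _ = _ := by group
    · intro V' hV' hle hne x hx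
      have h1 : cj g⁻¹ V' ≤ U0 := by
        have := cj_mono (g := g⁻¹) hle
        rwa [cj_inv_cj] at this
      have h2 : cj g⁻¹ V' ≠ V := by
        intro e
        apply hne
        rw [← e, cj_cj_inv]
      have h3 : g⁻¹ * x * g ∈ cj g⁻¹ V' := by
        rw [mem_cj]
        have e : g⁻¹⁻¹ * (g⁻¹ * x * g) * g⁻¹ = x := by group
        rw [e]; exact hx
      have h4 := ht2 _ (hf.cjV _ _ hV') h1 h2 _ h3
      calc g * t * g⁻¹ * x = g * (t * (g⁻¹ * x * g)) * g⁻¹ := by group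
        _ = g * (g⁻¹ * x * g * t) * g⁻¹ := by rw [h4]
        _ = _ := by group
  W_ge := by
    intro d hd
    obtain ⟨d', hd', rfl⟩ := mem_cj'.1 hd
    have e : cj (g * d' * g⁻¹) (cj g U0) = cj g (cj d' U0) := by
      rw [cj_cj, cj_cj, show g * d' * g⁻¹ * g = g * d' by group]
    rw [e]
    exact cj_mono (h.W_ge d' hd')
  W_le := by
    intro X hX
    rw [cj_le_iff]
    apply h.W_le
    intro d hd
    rw [← cj_le_iff]
    have h1 := hX (g * d * g⁻¹) (conj_mem_cj hd)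
    have e : cj (g * d * g⁻¹) (cj g U0) = cj g (cj d U0) := by
      rw [cj_cj, cj_cj, show g * d * g⁻¹ * g = g * d by group]
    rwa [e] at h1
  W_comm := comm_conj g h.W_comm
  N_le := cj_mono h.N_le
  Q_le := cj_mono h.Q_le
  N_norm := by
    intro d hd n hn
    obtain ⟨d', hd', rfl⟩ := mem_cj'.1 hd
    obtain ⟨n', hn', rfl⟩ := mem_cj'.1 hn
    exact mem_cj'.2 ⟨_, h.N_norm d' hd' n' hn', by group⟩
  Q_norm := by
    intro d hd n hn
    obtain ⟨d', hd', rfl⟩ := mem_cj'.1 hd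
    obtain ⟨n', hn', rfl⟩ := mem_cj'.1 hn
    exact mem_cj'.2 ⟨_, h.Q_norm d' hd' n' hn', by group⟩
  prime := h.prime
  odd := h.odd
  N_comm := by
    intro a ha b hb
    obtain ⟨a', ha', rfl⟩ := mem_cj'.1 ha
    obtain ⟨b', hb', rfl⟩ := mem_cj'.1 hb
    exact mem_cj'.2 ⟨_, h.N_comm a' ha' b' hb', by group⟩
  N_pow := by
    intro a ha
    obtain ⟨a', ha', rfl⟩ := mem_cj'.1 ha
    refine mem_cj'.2 ⟨_, h.N_pow a' ha', ?_⟩
    rw [conj_pow]
  ne := by
    intro e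
    apply h.ne
    have := congrArg (cj g⁻¹) e
    rwa [cj_inv_cj, cj_inv_cj] at this
  Q_fix := by
    intro q hq
    rw [mem_normalizer_cj]
    exact h.Q_fix _ (mem_cj.1 hq)
  N_fix := by
    intro n hn hn'
    rw [mem_normalizer_cj] at hn'
    exact mem_cj.2 (h.N_fix _ (mem_cj.1 hn) hn')
  trans := by
    intro d hd
    obtain ⟨d', hd', rfl⟩ := mem_cj'.1 hd
    obtain ⟨n, hn, m, hm, hm', e⟩ := h.trans d' hd'
    refine ⟨g * n * g⁻¹, conj_mem_cj hn, g * m * g⁻¹, conj_mem_cj hm, ?_, ?_⟩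
    · rw [mem_normalizer_cj]
      have e : g⁻¹ * (g * m * g⁻¹) * g = m := by group
      rw [e]; exact hm'
    · rw [e]; group
  faith := by
    intro d hd hd'
    obtain ⟨d', hd1, rfl⟩ := mem_cj'.1 hd
    refine conj_mem_cj (h.faith d' hd1 fun n hn => ?_)
    have h1 := hd' _ (conj_mem_cj hn)
    rw [mem_cj] at h1
    have e : g⁻¹ * (g * d' * g⁻¹ * (g * n * g⁻¹) * (g * d' * g⁻¹)⁻¹ * (g * n * g⁻¹)⁻¹) * g =
      d' * n * d'⁻¹ * n⁻¹ := by group
    rwa [e] at h1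
  irr := by
    intro X hQX hXN hX
    have h1 : Q ≤ cj g⁻¹ X := by rw [← cj_le_iff]; exact hQX
    have h2 : cj g⁻¹ X ≤ N := by
      have := cj_mono (g := g⁻¹) hXN
      rwa [cj_inv_cj] at this
    rcases h.irr _ h1 h2 (by
      intro d hd hd' x hx
      have h3 : g * x * g⁻¹ ∈ X := by
        rw [mem_cj] at hx
        rwa [inv_inv] at hx
      have h4 := hX (g * d * g⁻¹) (conj_mem_cj hd) (by
        rw [mem_normalizer_cj]
        have e : g⁻¹ * (g * d * g⁻¹) * g = d := by group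
        rw [e]; exact hd') _ h3
      rw [mem_cj]
      have e : g⁻¹⁻¹ * (d * x * d⁻¹) * g⁻¹ = g * d * g⁻¹ * (g * x * g⁻¹) * (g * d * g⁻¹)⁻¹ := by group
      rw [e]; exact h4) with h3 | h3
    · left; rw [← h3, cj_cj_inv]
    · right; rw [← h3, cj_cj_inv]

/-! ### Step 2 -/

section StepTwo

variable {k : ℕ} {V : Fin k → Subgroup G} {U : Subgroup G} {z : G}

/-- words of length `n` in the cosets -/
def wrd (M D : Subgroup G) : ℕ → Set G
  | 0 => {g | g ∈ M}
  | n + 1 => {g | ∃ s ∈ wrd M D n, ∃ c ∈ D, ∃ m ∈ M, g = s * c * m}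

theorem wrd_mul_right {M D : Subgroup G} {n : ℕ} {g m : G} (hg : g ∈ wrd M D n) (hm : m ∈ M) :
    g * m ∈ wrd M D n := by
  cases n with
  | zero => exact M.mul_mem hg hm
  | succ n =>
    obtain ⟨s, hs, c, hc, m', hm', rfl⟩ := hg
    exact ⟨s, hs, c, hc, m' * m, M.mul_mem hm' hm, by group⟩

theorem wrd_mul_left {M D : Subgroup G} {n : ℕ} : ∀ {g m : G}, g ∈ wrd M D n → m ∈ M →
    m * g ∈ wrd M D n := by
  induction n with
  | zero => intro g m hg hm; exact M.mul_mem hm hg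
  | succ n ih =>
    intro g m hg hm
    obtain ⟨s, hs, c, hc, m', hm', rfl⟩ := hg
    exact ⟨m * s, ih hs hm, c, hc, m', hm', by group⟩

theorem wrd_D_left {M D : Subgroup G} {n : ℕ} : ∀ {g c : G}, g ∈ wrd M D n → c ∈ D →
    c * g ∈ wrd M D (n + 1) := by
  induction n with
  | zero => intro g c hg hc; exact ⟨1, M.one_mem, c, hc, g, hg, by group⟩
  | succ n ih =>
    intro g c hg hc
    obtain ⟨s, hs, c', hc', m', hm', rfl⟩ := hg
    exact ⟨c * s, ih hs hc, c', hc', m', hm', by group⟩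

theorem wrd_succ {M D : Subgroup G} {n : ℕ} {g : G} (hg : g ∈ wrd M D n) : g ∈ wrd M D (n + 1) :=
  ⟨g, hg, 1, D.one_mem, 1, M.one_mem, by group⟩

theorem wrd_inv {M D : Subgroup G} {n : ℕ} : ∀ {g : G}, g ∈ wrd M D n → g⁻¹ ∈ wrd M D n := by
  induction n with
  | zero => intro g hg; exact M.inv_mem hg
  | succ n ih =>
    intro g hg
    obtain ⟨s, hs, c, hc, m, hm, rfl⟩ := hg
    have e : (s * c * m)⁻¹ = m⁻¹ * (c⁻¹ * s⁻¹) := by group
    rw [e]
    exact wrd_mul_left (wrd_D_left (ih hs) (D.inv_mem hc)) (M.inv_mem hm)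

theorem wrd_mul {M D : Subgroup G} {n k : ℕ} : ∀ {g h : G}, g ∈ wrd M D n → h ∈ wrd M D k →
    g * h ∈ wrd M D (n + k) := by
  induction k with
  | zero => intro g h hg hh; exact wrd_mul_right hg hh
  | succ k ih =>
    intro g h hg hh
    obtain ⟨s, hs, c, hc, m, hm, rfl⟩ := hh
    exact ⟨g * s, ih hg hs, c, hc, m, hm, by group⟩

/-- some block reachable from `U` does not commute with `U` -/
theorem exists_ne [Finite G] (h : Om V U z) {D : Subgroup G} (hD : D ≤ centralizer ({z} : Set G))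
    (hDM : ¬ D ≤ normalizer (U : Set G)) :
    ∃ n : ℕ, ∃ g ∈ wrd (normalizer (U : Set G)) D n, ¬ ∀ a ∈ U, ∀ b ∈ cj g U, a * b = b * a := by
  by_contra hcon
  push Not at hcon
  set M := normalizer (U : Set G) with hM
  set 𝒮 : Set (Subgroup G) := {X | ∃ n : ℕ, ∃ g ∈ wrd M D n, X = cj g U} with h𝒮
  have hcomm : ∀ X ∈ 𝒮, ∀ Y ∈ 𝒮, ∀ a ∈ X, ∀ b ∈ Y, a * b = b * a := by
    rintro _ ⟨n, g, hg, rfl⟩ _ ⟨m, g', hg', rfl⟩
    have e : cj g' U = cj g (cj (g⁻¹ * g') U) := by rw [cj_cj, mul_inv_cancel_left]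
    rw [e]
    exact comm_conj g (hcon _ _ (wrd_mul (wrd_inv hg) hg'))
  have hsq : ∀ X ∈ 𝒮, ∀ a ∈ X, a * a = 1 := by
    rintro _ ⟨n, g, hg, rfl⟩ _ ⟨a, ha, rfl⟩
    rw [← map_mul, h.sq a ha, map_one]
  have hnorm : ∀ K : Subgroup G, (∀ x ∈ K, ∀ n, ∀ g ∈ wrd M D n, ∃ m, x * g ∈ wrd M D m) →
      K ≤ normalizer ((sSup 𝒮 : Subgroup G) : Set G) := by
    intro K hK
    have h1 : ∀ x ∈ K, cj x (sSup 𝒮) ≤ sSup 𝒮 := by
      intro x hx
      rw [cj_le_iff]
      refine sSup_le ?_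
      rintro _ ⟨n, g, hg, rfl⟩
      rw [← cj_le_iff, cj_cj]
      obtain ⟨m, hm⟩ := hK x hx n g hg
      exact le_sSup ⟨m, _, hm, rfl⟩
    intro x hx
    rw [mem_normalizer_iff_cj]
    refine le_antisymm (h1 x hx) ?_
    have h2 := h1 x⁻¹ (K.inv_mem hx)
    rwa [cj_le_iff, inv_inv] at h2
  have hR : IsPGroup 2 ↥(sSup 𝒮) := by
    intro x
    refine ⟨1, ?_⟩
    rw [pow_one, pow_two]
    exact Subtype.ext (sSup_sq hcomm hsq x x.2)
  have h1 := h.core (sSup 𝒮) hR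
    (hnorm M fun x hx n g hg => ⟨n, wrd_mul_left hg hx⟩) D hD hDM
    (hnorm D fun x hx n g hg => ⟨n + 1, wrd_D_left hg hx⟩)
  have h2 : U ≤ sSup 𝒮 := le_sSup ⟨0, 1, M.one_mem, (cj_one U).symm⟩
  obtain ⟨i, -, -⟩ := h.two
  apply V_ne_bot h i
  rw [eq_bot_iff, ← h1]
  exact (V_le h i).trans h2

theorem cj_mem_M {M : Subgroup G} {U : Subgroup G} (hM : M = normalizer (U : Set G)) {m : G} (hm : m ∈ M) (g : G) :
    cj (g * m) U = cj g U := by
  rw [hM] at hm
  rw [← cj_cj, mem_normalizer_iff_cj.1 hm]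

theorem mem_normalizer_of_comm {x : G} {X : Subgroup G} (h : ∀ u ∈ X, x * u = u * x) :
    x ∈ normalizer (X : Set G) :=
  centralizer_le_normalizer _ (mem_centralizer_iff.2 fun u hu => (h u hu).symm)

/-- the critical pair -/
theorem exists_crit [Finite G] (h : Om V U z) {D : Subgroup G} (hD : D ≤ centralizer ({z} : Set G))
    (hMD : normalizer (U : Set G) ⊓ centralizer ({z} : Set G) ≤ D) (hDM : ¬ D ≤ normalizer (U : Set G)) :
    ∃ r : G, (∀ a ∈ cj r (ww D U), ∀ b ∈ U, a * b = b * a) ∧ (∀ a ∈ ww D U, ∀ b ∈ cj r U, a * b = b * a) ∧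
      cj r (ww D U) ≤ D ∧ ww D U ≤ cj r D ∧ ∃ a ∈ ww D U, ∃ b ∈ cj r (ww D U), a * b ≠ b * a := by
  classical
  set M := normalizer (U : Set G) with hM
  have hex := exists_ne h hD hDM
  set n := Nat.find hex with hn
  obtain ⟨g, hg, hne⟩ := Nat.find_spec hex
  rw [← hn] at hg
  have hmin : ∀ m < n, ∀ g ∈ wrd M D m, ∀ a ∈ U, ∀ b ∈ cj g U, a * b = b * a := by
    intro m hm g hg
    have := Nat.find_min hex hm
    push Not at this
    exact this g hg
  have hn0 : n ≠ 0 := by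
    intro e
    rw [e] at hg
    have hgM : g ∈ M := hg
    apply hne
    rw [mem_normalizer_iff_cj.1 hgM]
    exact h.comm
  obtain ⟨n', hn'⟩ := Nat.exists_eq_succ_of_ne_zero hn0
  rw [hn'] at hg
  obtain ⟨s, hs, c, hc, m, hm, rfl⟩ := hg
  have hn1 : n' ≠ 0 := by
    intro e
    rw [e] at hs
    have hsM : s ∈ M := hs
    apply hne
    rw [cj_mem_M hM hm, ← cj_cj]
    have e1 := comm_conj s (h.uc c (hD hc))
    rw [mem_normalizer_iff_cj.1 hsM] at e1
    exact e1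
  obtain ⟨n'', hn''⟩ := Nat.exists_eq_succ_of_ne_zero hn1
  have hs' := wrd_inv hs
  rw [hn''] at hs'
  obtain ⟨s', hs'', c', hc', m', hm', e⟩ := hs'
  have es : s = m'⁻¹ * (c'⁻¹ * s'⁻¹) := by
    rw [← inv_inv s, e]; group
  set r := s'⁻¹ with hr
  have hr' : r ∈ wrd M D n'' := wrd_inv hs''
  have hcU : ∀ a ∈ cj r (ww D U), ∀ b ∈ U, a * b = b * a := by
    have h1 : cj r (ww D U) ≤ centralizer (U : Set G) := by
      rw [cj_le_iff]
      refine ww_le fun d hd => ?_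
      rw [← cj_le_iff, cj_cj]
      intro a ha
      rw [mem_centralizer_iff]
      intro b hb
      have h2 : r * d ∈ wrd M D (n'' + 1) := ⟨r, hr', d, hd, 1, M.one_mem, by group⟩
      exact hmin (n'' + 1) (by omega) _ h2 b hb a ha
    intro a ha b hb
    exact (mem_centralizer_iff.1 (h1 ha) b hb).symm
  have hcU' : ∀ a ∈ ww D U, ∀ b ∈ cj r U, a * b = b * a := by
    have h1 : ww D U ≤ centralizer ((cj r U : Subgroup G) : Set G) := by
      refine ww_le fun d hd => ?_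
      intro a ha
      rw [mem_centralizer_iff]
      intro b hb
      have h2 : d⁻¹ * r ∈ wrd M D (n'' + 1) := wrd_D_left hr' (D.inv_mem hd)
      have h3 := comm_conj d (hmin (n'' + 1) (by omega) _ h2)
      rw [cj_cj, mul_inv_cancel_left] at h3
      exact (h3 a ha b hb).symm
    intro a ha b hb
    exact (mem_centralizer_iff.1 (h1 ha) b hb).symm
  refine ⟨r, hcU, hcU', ?_, ?_, ?_⟩
  · intro x hx
    apply hMD
    exact ⟨mem_normalizer_of_comm (hcU x hx), mem_centralizer_singleton_iff.2 (hcU x hx z h.z_mem)⟩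
  · intro x hx
    rw [mem_cj]
    apply hMD
    have key : ∀ u ∈ U, r⁻¹ * x * r * u = u * (r⁻¹ * x * r) := by
      intro u hu
      have h1 := hcU' x hx _ (conj_mem_cj (g := r) hu)
      calc r⁻¹ * x * r * u = r⁻¹ * (x * (r * u * r⁻¹)) * r := by group
        _ = r⁻¹ * (r * u * r⁻¹ * x) * r := by rw [h1]
        _ = _ := by group
    exact ⟨mem_normalizer_of_comm key, mem_centralizer_singleton_iff.2 (key z h.z_mem)⟩
  · by_contra hcon
    push Not at hcon
    apply hne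
    -- `U` and `U ^ (s c)` commute
    rw [cj_mem_M hM hm, es]
    have h1 : ∀ a ∈ cj c'⁻¹⁻¹ U, ∀ b ∈ cj (r * c) U, a * b = b * a := by
      intro a ha b hb
      rw [inv_inv] at ha
      refine hcon a (le_ww hc' ha) b ?_
      rw [← cj_cj] at hb
      exact cj_mono (le_ww hc) hb
    have h2 := comm_conj (m'⁻¹ * c'⁻¹) h1
    rw [cj_cj, cj_cj] at h2
    have e1 : m'⁻¹ * c'⁻¹ * c'⁻¹⁻¹ = m'⁻¹ := by group
    have e2 : m'⁻¹ * c'⁻¹ * (r * c) = m'⁻¹ * (c'⁻¹ * r) * c := by group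
    rw [e1, e2, mem_normalizer_iff_cj.1 (inv_mem hm')] at h2
    exact h2

/-- Steps 1 and 2: the noncommuting pair -/
theorem main [Finite G] (h : Om V U z) :
    ∃ (UU VV : Set (Subgroup G)) (F : Set G) (D N Q U0 W : Subgroup G) (z₁ : G) (p : ℕ)
      (D' N' Q' U0' W' : Subgroup G) (z' : G) (p' : ℕ),
      Pair k UU VV F D N Q U0 W z₁ p D' N' Q' U0' W' z' p' := by
  obtain ⟨D, hD, hMD, hDM, hmax⟩ := exists_D h
  obtain ⟨N, Q, p, hv⟩ := vert h hD hMD hDM hmax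
  obtain ⟨r, h1, h2, h3, h4, a, ha, b, hb, hne⟩ := exists_crit h hD hMD hDM
  have hf := fam h
  refine ⟨{X | ∃ g : G, X = cj g U}, {Y | ∃ (g : G) (i : Fin k), Y = cj g (V i)}, full V U, cj r D, cj r N, cj r Q, cj r U, cj r (ww D U), r * z * r⁻¹, p, D, N, Q, U, ww D U, z, p, ?_⟩
  exact {
    fam := hf
    v := vert_conj hf hv r
    v' := hv
    le := h3
    le' := h4
    fix := h1
    fix' := h2
    ne := ⟨b, hb, a, ha, fun e => hne e.symm⟩ }

end StepTwo

end Cfsg.Agent.MinSimple.Omega.MakePair
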