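import Mathlib
import Cfsg.Agent.MinSimple.OmPairD
import Cfsg.Agent.MinSimple.Omega.MakePair
import Cfsg.Agent.MinSimple.Omega.Derive
import Cfsg.Agent.MinSimple.CaseDFinal

/-!
# The case (Omega) is empty

`false_of_om`: the abstract situation `Om` ((O0), (O1), (O2)) is impossible; `false_of_omega`:
the case (Omega) of the reduction does not occur.
-/

set_option autoImplicit false

namespace Cfsg.Agent.MinSimple.Omega.Final

open Subgroup Cfsg Cfsg.Agent.ZN Cfsg.Agent.MinSimple
open Cfsg.Agent.MinSimple.Omega.Defs

universe u

variable {G : Type u} [Group G]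

/-- **The abstract situation is impossible.** -/
theorem false_of_om [Finite G] {k : ℕ} {V : Fin k → Subgroup G} {U : Subgroup G} {z : G}
    (h : Om V U z) : False := by
  obtain ⟨_, _, _, _, _, _, _, _, _, _, _, _, _, _, _, _, _, hp⟩ := MakePair.main h
  exact OmPairD.false_of_pair hp

/-- **The case (Omega) does not occur.** -/
theorem false_of_omega [Finite G] {S : Sylow 2 G} {n : ℕ} {V : Fin n → Subgroup G} {x : Fin n → G}
    {U : Subgroup G} {z : G} (hA : Amb G) (h : Omega S V x U z) : False :=
  false_of_om (Derive.main hA h (CaseDFinal.le_o2 hA h))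

end Cfsg.Agent.MinSimple.Omega.Final
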