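import Mathlib
import Cfsg.Agent.MinSimple.Omega.Defs
import Cfsg.Agent.MinSimple.DihedralBasis

/-!
# Core theorem T, case (Omega): the action of `A` on the blocks

Consequences of `Cfg0` (Steps 3 and 4 of helper12's proof, board P21 row 4061).
-/

set_option autoImplicit false

namespace Cfsg.Agent.MinSimple.Omega.Facts

open Subgroup Cfsg.Agent.MinSimple.Geo Cfsg.Agent.MinSimple.Omega.Defs
open Cfsg.Agent.MinSimple.DihedralBasis (IsWeight)

variable {Γ : Type*} [Group Γ]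

/-! ### general lemmas -/

theorem relIndex_eq_two {K A : Subgroup Γ} {a₀ : Γ} (ha₀ : a₀ ∈ A) (ha₀K : a₀ ∉ K)
    (h : ∀ a ∈ A, ∀ b ∈ A, a ∉ K → b ∉ K → a * b ∈ K) : K.relIndex A = 2 := by
  rw [relIndex, index_eq_two_iff]
  refine ⟨⟨a₀, ha₀⟩, fun b => ?_⟩
  by_cases hb : (b : Γ) ∈ K
  · refine Or.inr ⟨hb, fun h' => ha₀K ?_⟩
    exact (K.mul_mem_cancel_left hb).1 h'
  · exact Or.inl ⟨h b b.2 a₀ ha₀ hb ha₀K, hb⟩

theorem card_mul_card_le {X Y U : Subgroup Γ} [Finite Γ] (hX : X ≤ U) (hY : Y ≤ U) (h : X ⊓ Y = ⊥) :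
    Nat.card X * Nat.card Y ≤ Nat.card U := by
  rw [← Nat.card_prod]
  refine Nat.card_le_card_of_injective
    (fun p : X × Y => (⟨p.1 * p.2, U.mul_mem (hX p.1.2) (hY p.2.2)⟩ : U)) ?_
  intro p q hpq
  have h1 : (p.1 : Γ) * p.2 = q.1 * q.2 := congrArg Subtype.val hpq
  have h2 := mul_injective_of_disjoint (disjoint_iff.2 h) (a₁ := p) (a₂ := q) h1
  exact h2

theorem card_sup_of_disj {X Y : Subgroup Γ} (h : X ⊓ Y = ⊥) (hc : ∀ x ∈ X, ∀ y ∈ Y, x * y = y * x) :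
    Nat.card ↥(X ⊔ Y) = Nat.card X * Nat.card Y := by
  have h1 := Cfsg.Agent.ZN.Block.card_sup_mul_card_inf (H := X) (N := Y) (by
    intro x hx
    rw [mem_normalizer_iff]
    intro y
    constructor
    · intro hy
      rwa [hc x hx y hy, mul_inv_cancel_right]
    · intro hy
      have h2 := hc x hx _ hy
      have h3 : y = x * y * x⁻¹ := by
        have h4 : x * (x * y * x⁻¹) = x * y := by rw [h2]; group
        exact (mul_left_cancel h4).symm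
      rw [h3]; exact hy)
  rwa [h, Subgroup.card_bot, mul_one] at h1

/-- elements of a join of two commuting subgroups -/
theorem mem_sup_of_comm {X Y : Subgroup Γ} (hc : ∀ x ∈ X, ∀ y ∈ Y, x * y = y * x) {u : Γ} (hu : u ∈ X ⊔ Y) :
    ∃ x ∈ X, ∃ y ∈ Y, u = x * y := by
  let D : Subgroup Γ := {
    carrier := {p | ∃ a ∈ X, ∃ b ∈ Y, p = a * b}
    one_mem' := ⟨1, one_mem _, 1, one_mem _, (one_mul 1).symm⟩
    mul_mem' := by
      rintro x y ⟨a, ha, b, hb, rfl⟩ ⟨c, hcX, d, hd, rfl⟩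
      refine ⟨a * c, X.mul_mem ha hcX, b * d, Y.mul_mem hb hd, ?_⟩
      have e := hc c hcX b hb
      calc a * b * (c * d) = a * (b * c) * d := by group
        _ = a * (c * b) * d := by rw [e]
        _ = a * c * (b * d) := by group
    inv_mem' := by
      rintro x ⟨a, ha, b, hb, rfl⟩
      refine ⟨a⁻¹, X.inv_mem ha, b⁻¹, Y.inv_mem hb, ?_⟩
      rw [hc a ha b hb, mul_inv_rev] }
  have hD0 : X ≤ D := fun x hx => ⟨x, hx, 1, one_mem _, (mul_one x).symm⟩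
  have hD1 : Y ≤ D := fun x hx => ⟨1, one_mem _, x, hx, (one_mul x).symm⟩
  exact (sup_le hD0 hD1) hu

theorem mem_centralizer_sup {X Y : Subgroup Γ} {a : Γ} (h1 : ∀ x ∈ X, a * x = x * a)
    (h2 : ∀ x ∈ Y, a * x = x * a) : ∀ x ∈ X ⊔ Y, a * x = x * a := by
  have h3 : X ⊔ Y ≤ centralizer ({a} : Set Γ) := sup_le
    (fun x hx => mem_centralizer_singleton_iff.2 (h1 x hx).symm)
    (fun x hx => mem_centralizer_singleton_iff.2 (h2 x hx).symm)
  intro x hx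
  exact (mem_centralizer_singleton_iff.1 (h3 hx)).symm

theorem cj_comm_iff {a g x : Γ} : a * (g * x * g⁻¹) = g * x * g⁻¹ * a ↔
    g⁻¹ * a * g * x = x * (g⁻¹ * a * g) := by
  constructor
  · intro h
    calc g⁻¹ * a * g * x = g⁻¹ * (a * (g * x * g⁻¹)) * g := by group
      _ = g⁻¹ * (g * x * g⁻¹ * a) * g := by rw [h]
      _ = _ := by group
  · intro h
    calc a * (g * x * g⁻¹) = g * (g⁻¹ * a * g * x) * g⁻¹ := by group
      _ = g * (x * (g⁻¹ * a * g)) * g⁻¹ := by rw [h]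
      _ = _ := by group

theorem cj_eq_of_comm {a : Γ} {X : Subgroup Γ} (h : ∀ x ∈ X, a * x = x * a) : cj a X = X := by
  ext y
  rw [mem_cj]
  constructor
  · intro hy
    have h1 := h _ hy
    have h2 : y = a⁻¹ * y * a := by
      have : a * (a⁻¹ * y * a) = y * a := by group
      rw [this] at h1
      exact mul_right_cancel h1
    rw [h2]; exact hy
  · intro hy
    have h1 := h y hy
    have h2 : a⁻¹ * y * a = y := by
      rw [mul_assoc, ← h1, inv_mul_cancel_left]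
    rw [h2]; exact hy

theorem cj_sup (g : Γ) (X Y : Subgroup Γ) : cj g (X ⊔ Y) = cj g X ⊔ cj g Y := Subgroup.map_sup _ _ _

theorem cj_bot (g : Γ) : cj g (⊥ : Subgroup Γ) = ⊥ := Subgroup.map_bot _

/-! ### consequences of `Cfg0` -/

section Cfg

variable {V₁ V₂ U H Q N A : Subgroup Γ} {z : Γ}

theorem V₁_le (h : Cfg0 V₁ V₂ U H Q N A z) : V₁ ≤ U := h.U_eq ▸ le_sup_left

theorem V₂_le (h : Cfg0 V₁ V₂ U H Q N A z) : V₂ ≤ U := h.U_eq ▸ le_sup_right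

theorem U_comm (h : Cfg0 V₁ V₂ U H Q N A z) : ∀ a ∈ U, ∀ b ∈ U, a * b = b * a := by
  intro a ha b hb
  exact h.comm 1 a ha b (by rw [cj_one]; exact hb)

theorem blocks_comm (h : Cfg0 V₁ V₂ U H Q N A z) (g k : Γ) : ∀ a ∈ cj g U, ∀ b ∈ cj k U, a * b = b * a := by
  intro a ha b hb
  rw [mem_cj] at ha
  have h1 := h.comm (g⁻¹ * k) _ ha (g⁻¹ * b * g) (by
    rw [mem_cj] at hb ⊢
    have : (g⁻¹ * k)⁻¹ * (g⁻¹ * b * g) * (g⁻¹ * k) = k⁻¹ * b * k := by group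
    rw [this]; exact hb)
  calc a * b = g * ((g⁻¹ * a * g) * (g⁻¹ * b * g)) * g⁻¹ := by group
    _ = g * ((g⁻¹ * b * g) * (g⁻¹ * a * g)) * g⁻¹ := by rw [h1]
    _ = b * a := by group

theorem block_comm (h : Cfg0 V₁ V₂ U H Q N A z) (g : Γ) : ∀ a ∈ cj g U, ∀ b ∈ cj g U, a * b = b * a :=
  blocks_comm h g g

theorem block_sq (h : Cfg0 V₁ V₂ U H Q N A z) (g : Γ) : ∀ a ∈ cj g U, a * a = 1 := by
  intro a ha
  rw [mem_cj] at ha
  have h1 := h.sq _ ha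
  calc a * a = g * ((g⁻¹ * a * g) * (g⁻¹ * a * g)) * g⁻¹ := by group
    _ = 1 := by rw [h1]; group

theorem block_le (U : Subgroup Γ) (g : Γ) : cj g U ≤ wd U := le_iSup (fun g : Γ => cj g U) g

theorem cj_wd (U : Subgroup Γ) (g : Γ) : cj g (wd U) = wd U := by
  apply le_antisymm
  · rw [cj_le_iff]
    refine iSup_le fun k => ?_
    rw [← cj_le_iff, cj_cj]
    exact block_le U _
  · refine iSup_le fun k => ?_
    rw [← cj_cj_inv g (cj k U), cj_le_cj, cj_cj]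
    exact block_le U _

theorem wd_normal (U : Subgroup Γ) : (wd U).Normal := by
  constructor
  intro n hn g
  have h1 : g * n * g⁻¹ ∈ cj g (wd U) := conj_mem_cj hn
  rwa [cj_wd] at h1

/-- `W = wd U` is abelian -/
theorem wd_comm (h : Cfg0 V₁ V₂ U H Q N A z) : ∀ a ∈ wd U, ∀ b ∈ wd U, a * b = b * a := by
  have h1 : ∀ g : Γ, ∀ a ∈ cj g U, ∀ b ∈ wd U, b * a = a * b := by
    intro g a ha
    have h2 : wd U ≤ centralizer ({a} : Set Γ) := iSup_le fun k b hb =>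
      mem_centralizer_singleton_iff.2 (blocks_comm h k g b hb a ha)
    intro b hb
    exact mem_centralizer_singleton_iff.1 (h2 hb)
  intro a ha b hb
  have h2 : wd U ≤ centralizer ({b} : Set Γ) := iSup_le fun k x hx =>
    mem_centralizer_singleton_iff.2 (h1 k x hx b hb).symm
  exact mem_centralizer_singleton_iff.1 (h2 ha)

theorem wd_sq (h : Cfg0 V₁ V₂ U H Q N A z) : ∀ a ∈ wd U, a * a = 1 := by
  let D : Subgroup Γ := {
    carrier := {p | p ∈ wd U ∧ p * p = 1}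
    one_mem' := ⟨one_mem _, one_mul 1⟩
    mul_mem' := by
      rintro x y ⟨hx, hx2⟩ ⟨hy, hy2⟩
      refine ⟨mul_mem hx hy, ?_⟩
      calc x * y * (x * y) = x * (y * x) * y := by group
        _ = x * (x * y) * y := by rw [wd_comm h y hy x hx]
        _ = (x * x) * (y * y) := by group
        _ = 1 := by rw [hx2, hy2, one_mul]
    inv_mem' := by
      rintro x ⟨hx, hx2⟩
      exact ⟨inv_mem hx, by rw [← mul_inv_rev, hx2, inv_one]⟩ }
  have h1 : wd U ≤ D := iSup_le fun k x hx => ⟨block_le U k hx, block_sq h k x hx⟩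
  intro a ha
  exact (h1 ha).2

theorem card_U (h : Cfg0 V₁ V₂ U H Q N A z) : Nat.card U = 16 := by
  have h1 := card_sup_of_disj h.disj (fun x hx y hy => U_comm h x (V₁_le h hx) y (V₂_le h hy))
  rw [h.U_eq, h.card₁, h.card₂] at h1
  exact h1

theorem card_block (h : Cfg0 V₁ V₂ U H Q N A z) (g : Γ) : Nat.card (cj g U) = 16 := by
  rw [card_cj, card_U h]

theorem block_eq (h : Cfg0 V₁ V₂ U H Q N A z) (g : Γ) : cj g V₁ ⊔ cj g V₂ = cj g U := by
  rw [← cj_sup, h.U_eq]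

theorem block_disj (h : Cfg0 V₁ V₂ U H Q N A z) (g : Γ) : cj g V₁ ⊓ cj g V₂ = ⊥ := by
  rw [← cj_inf, h.disj, cj_bot]

theorem cjV₁_le (h : Cfg0 V₁ V₂ U H Q N A z) (g : Γ) : cj g V₁ ≤ cj g U := cj_mono (V₁_le h)

theorem cjV₂_le (h : Cfg0 V₁ V₂ U H Q N A z) (g : Γ) : cj g V₂ ≤ cj g U := cj_mono (V₂_le h)

theorem z_mem_block (h : Cfg0 V₁ V₂ U H Q N A z) (g : Γ) : z ∈ cj g U := by
  rw [mem_cj]
  have : g⁻¹ * z * g = z := by rw [mul_assoc, ← h.z_cent, inv_mul_cancel_left]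
  rw [this]; exact h.z_mem

theorem mem_H_iff (h : Cfg0 V₁ V₂ U H Q N A z) {c : Γ} : c ∈ H ↔ cj c U = U := by
  rw [← h.H_eq, mem_normalizer_iff_cj]

theorem fix_block_iff (h : Cfg0 V₁ V₂ U H Q N A z) {c g : Γ} : cj c (cj g U) = cj g U ↔ g⁻¹ * c * g ∈ H := by
  rw [mem_H_iff h, cj_cj]
  constructor
  · intro h1
    rw [mul_assoc, ← cj_cj, h1, cj_inv_cj]
  · intro h1
    have h2 : cj g (cj (g⁻¹ * c * g) U) = cj g U := by rw [h1]
    rw [cj_cj, show g * (g⁻¹ * c * g) = c * g by group] at h2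
    exact h2

/-- an element normalising a block permutes its two factors -/
theorem perm_block (h : Cfg0 V₁ V₂ U H Q N A z) {c g : Γ} (hc : cj c (cj g U) = cj g U) :
    (cj c (cj g V₁) = cj g V₁ ∧ cj c (cj g V₂) = cj g V₂) ∨
      (cj c (cj g V₁) = cj g V₂ ∧ cj c (cj g V₂) = cj g V₁) := by
  have h1 := h.perm _ ((fix_block_iff h).1 hc)
  have h2 : ∀ X : Subgroup Γ, cj c (cj g X) = cj g (cj (g⁻¹ * c * g) X) := by
    intro X
    rw [cj_cj, cj_cj, show g * (g⁻¹ * c * g) = c * g by group]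
  rw [h2, h2]
  rcases h1 with ⟨h3, h4⟩ | ⟨h3, h4⟩
  · exact Or.inl ⟨by rw [h3], by rw [h4]⟩
  · exact Or.inr ⟨by rw [h3], by rw [h4]⟩

/-- the centraliser of a non-full element normalises the block -/
theorem cent_block (h : Cfg0 V₁ V₂ U H Q N A z) {g x c : Γ} (hx : x ∈ cj g V₁ ∨ x ∈ cj g V₂) (hx1 : x ≠ 1)
    (hc : c * x = x * c) : cj c (cj g U) = cj g U := by
  rw [fix_block_iff h]
  have h1 : g⁻¹ * x * g ≠ 1 := by
    intro e
    apply hx1
    calc x = g * (g⁻¹ * x * g) * g⁻¹ := by group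
      _ = 1 := by rw [e]; group
  have h2 : g⁻¹ * c * g ∈ centralizer ({g⁻¹ * x * g} : Set Γ) := by
    rw [mem_centralizer_singleton_iff]
    calc g⁻¹ * c * g * (g⁻¹ * x * g) = g⁻¹ * (c * x) * g := by group
      _ = g⁻¹ * (x * c) * g := by rw [hc]
      _ = _ := by group
  rcases hx with hx | hx
  · exact h.cent₁ _ (mem_cj.1 hx) h1 h2
  · exact h.cent₂ _ (mem_cj.1 hx) h1 h2

/-- if `A` centralises a non-full element of a block, it centralises the block -/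
theorem nonfull (h : Cfg0 V₁ V₂ U H Q N A z) {g x : Γ} (hx : x ∈ cj g V₁ ∨ x ∈ cj g V₂) (hx1 : x ≠ 1)
    (hA : ∀ a ∈ A, a * x = x * a) : A ≤ centralizer ((cj g U : Subgroup Γ) : Set Γ) := by
  apply h.A_fix
  intro a ha
  rw [mem_normalizer_iff_cj]
  exact cent_block h hx hx1 (hA a ha)

/-- an element of `A` centralising a non-full element of a block centralises the block -/
theorem cent_nonfull (h : Cfg0 V₁ V₂ U H Q N A z) {g x : Γ} (hx : x ∈ cj g V₁ ∨ x ∈ cj g V₂) (hx1 : x ≠ 1)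
    {a : Γ} (ha : a ∈ A) (hax : a * x = x * a) : ∀ u ∈ cj g U, a * u = u * a := by
  have h1 := cent_block h hx hx1 hax
  rcases perm_block h h1 with ⟨h2, h3⟩ | ⟨h2, h3⟩
  · rw [← block_eq h]
    exact mem_centralizer_sup (h.A_V₁ g a ha h2) (h.A_V₂ g a ha h3)
  · exfalso
    have e : a * x * a⁻¹ = x := by rw [hax, mul_inv_cancel_right]
    have h4 : x ∈ cj g V₁ ⊓ cj g V₂ := by
      rcases hx with hx | hx
      · refine ⟨hx, ?_⟩
        have h5 : a * x * a⁻¹ ∈ cj a (cj g V₁) := conj_mem_cj hx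
        rwa [h2, e] at h5
      · refine ⟨?_, hx⟩
        have h5 : a * x * a⁻¹ ∈ cj a (cj g V₂) := conj_mem_cj hx
        rwa [h3, e] at h5
    rw [block_disj h, mem_bot] at h4
    exact hx1 h4

theorem swap_block (h : Cfg0 V₁ V₂ U H Q N A z) {g w : Γ} (hw : w ∈ A) (hn : cj w (cj g U) = cj g U)
    (hne : ∃ u ∈ cj g U, w * u ≠ u * w) :
    cj w (cj g V₁) = cj g V₂ ∧ cj w (cj g V₂) = cj g V₁ := by
  rcases perm_block h hn with ⟨h2, h3⟩ | h2
  · exfalso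
    obtain ⟨u, hu, hne⟩ := hne
    rw [← block_eq h] at hu
    exact hne (mem_centralizer_sup (h.A_V₁ g w hw h2) (h.A_V₂ g w hw h3) u hu)
  · exact h2

/-- elements of `A` normalising but not centralising a block: their product centralises it -/
theorem mul_cent (h : Cfg0 V₁ V₂ U H Q N A z) {g a b : Γ} (ha : a ∈ A) (hb : b ∈ A)
    (han : cj a (cj g U) = cj g U) (hbn : cj b (cj g U) = cj g U)
    (hane : ∃ u ∈ cj g U, a * u ≠ u * a) (hbne : ∃ u ∈ cj g U, b * u ≠ u * b) :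
    ∀ u ∈ cj g U, a * b * u = u * (a * b) := by
  obtain ⟨h1, h2⟩ := swap_block h ha han hane
  obtain ⟨h3, h4⟩ := swap_block h hb hbn hbne
  have h5 : cj (a * b) (cj g V₁) = cj g V₁ := by rw [← cj_cj, h3, h2]
  have h6 : cj (a * b) (cj g V₂) = cj g V₂ := by rw [← cj_cj, h4, h1]
  have hab : a * b ∈ A := mul_mem ha hb
  rw [← block_eq h]
  exact mem_centralizer_sup (h.A_V₁ g _ hab h5) (h.A_V₂ g _ hab h6)

/-- `F = C_{U^g}(A)` -/
structure IsLine (V₁ V₂ U A : Subgroup Γ) (z g w : Γ) : Prop where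
  card : Nat.card ↥(cj g U ⊓ centralizer (A : Set Γ)) = 4
  z_mem : z ∈ cj g U ⊓ centralizer (A : Set Γ)
  disj₁ : cj g U ⊓ centralizer (A : Set Γ) ⊓ cj g V₁ = ⊥
  disj₂ : cj g U ⊓ centralizer (A : Set Γ) ⊓ cj g V₂ = ⊥
  fix : ∀ u ∈ cj g U, w * u = u * w → u ∈ cj g U ⊓ centralizer (A : Set Γ)
  comm : ∀ u ∈ cj g U, w * u * w⁻¹ * u⁻¹ ∈ cj g U ⊓ centralizer (A : Set Γ)
  surj : ∀ e ∈ cj g U ⊓ centralizer (A : Set Γ), ∃ u ∈ cj g V₁, w * u * w⁻¹ * u⁻¹ = e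
  swap₁ : cj w (cj g V₁) = cj g V₂
  swap₂ : cj w (cj g V₂) = cj g V₁

theorem line [Finite Γ] (h : Cfg0 V₁ V₂ U H Q N A z) {g w : Γ} (hw : w ∈ A)
    (hn : cj w (cj g U) = cj g U) (hne : ∃ u ∈ cj g U, w * u ≠ u * w) : IsLine V₁ V₂ U A z g w := by
  obtain ⟨h1, h2⟩ := swap_block h hw hn hne
  set F := cj g U ⊓ centralizer (A : Set Γ) with hF
  have hnot : ¬ A ≤ centralizer ((cj g U : Subgroup Γ) : Set Γ) := by
    intro h3
    obtain ⟨u, hu, hne⟩ := hne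
    exact hne ((mem_centralizer_iff.1 (h3 hw)) u hu).symm
  have hz : z ∈ F := ⟨z_mem_block h g, mem_centralizer_iff.2 fun a _ => h.z_cent a⟩
  have hdisj : ∀ x ∈ F, (x ∈ cj g V₁ ∨ x ∈ cj g V₂) → x = 1 := by
    intro x hx hx'
    by_contra hx1
    exact hnot (nonfull h hx' hx1 fun a ha => mem_centralizer_iff.1 hx.2 a ha)
  have hd1 : F ⊓ cj g V₁ = ⊥ := by
    rw [eq_bot_iff]
    intro x hx
    rw [mem_bot]
    exact hdisj x hx.1 (Or.inl hx.2)
  have hd2 : F ⊓ cj g V₂ = ⊥ := by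
    rw [eq_bot_iff]
    intro x hx
    rw [mem_bot]
    exact hdisj x hx.1 (Or.inr hx.2)
  have hconj : ∀ u ∈ cj g U, w * u * w⁻¹ ∈ cj g U := by
    intro u hu
    rw [← hn]; exact conj_mem_cj hu
  have hcomm : ∀ u ∈ cj g U, w * u * w⁻¹ * u⁻¹ ∈ F := by
    intro u hu
    refine ⟨(cj g U).mul_mem (hconj u hu) ((cj g U).inv_mem hu), mem_centralizer_iff.2 fun a ha => ?_⟩
    exact h.A_comm a ha _ (h.A_norm w hw u (block_le U g hu))
  -- the map `v ↦ [w, v]` on `V₁^g`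
  have hinj : ∀ v ∈ cj g V₁, ∀ v' ∈ cj g V₁, w * v * w⁻¹ * v⁻¹ = w * v' * w⁻¹ * v'⁻¹ → v = v' := by
    intro v hv v' hv' e
    have hvU := cjV₁_le h g hv
    have hvU' := cjV₁_le h g hv'
    have e1 : v'⁻¹ * v = (w * v' * w⁻¹)⁻¹ * (w * v * w⁻¹) := by
      have e2 : w * v * w⁻¹ = w * v' * w⁻¹ * v'⁻¹ * v := by rw [← e]; group
      rw [e2]; group
    have e3 : (w * v' * w⁻¹)⁻¹ * (w * v * w⁻¹) = w * (v'⁻¹ * v) * w⁻¹ := by group
    have h4 : v'⁻¹ * v ∈ cj g V₁ ⊓ cj g V₂ := by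
      refine ⟨(cj g V₁).mul_mem ((cj g V₁).inv_mem hv') hv, ?_⟩
      rw [e1, e3, ← h1]
      exact conj_mem_cj ((cj g V₁).mul_mem ((cj g V₁).inv_mem hv') hv)
    rw [block_disj h, mem_bot] at h4
    exact (inv_mul_eq_one.1 h4).symm
  have hcV : Nat.card (cj g V₁) = 4 := by rw [card_cj, h.card₁]
  have hcF : Nat.card F ≤ 4 := by
    have h5 := card_mul_card_le (X := F) (inf_le_left : F ≤ cj g U) (cjV₁_le h g) hd1
    rw [hcV, card_block h] at h5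
    omega
  let φ : cj g V₁ → F := fun v => ⟨w * v * w⁻¹ * (v : Γ)⁻¹, hcomm v (cjV₁_le h g v.2)⟩
  have hφ : Function.Injective φ := by
    intro v v' e
    exact Subtype.ext (hinj v v.2 v' v'.2 (congrArg Subtype.val e))
  have hcF' : 4 ≤ Nat.card F := by
    rw [← hcV]
    exact Nat.card_le_card_of_injective φ hφ
  have hcF4 : Nat.card F = 4 := le_antisymm hcF hcF'
  have hφs : Function.Surjective φ := by
    have : Fintype (cj g V₁) := Fintype.ofFinite _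
    have : Fintype F := Fintype.ofFinite _
    refine ((Fintype.bijective_iff_injective_and_card φ).2 ⟨hφ, ?_⟩).2
    rw [← Nat.card_eq_fintype_card, ← Nat.card_eq_fintype_card, hcV, hcF4]
  -- the fixed points of `w`
  have hfix : ∀ u ∈ cj g U, w * u = u * w → u ∈ F := by
    set C := cj g U ⊓ centralizer ({w} : Set Γ) with hC
    have hFC : F ≤ C := by
      intro x hx
      exact ⟨hx.1, mem_centralizer_singleton_iff.2 (mem_centralizer_iff.1 hx.2 w hw).symm⟩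
    have hCd : C ⊓ cj g V₁ = ⊥ := by
      rw [eq_bot_iff]
      rintro x ⟨⟨hx, hxw⟩, hx1⟩
      rw [mem_bot]
      have e : w * x * w⁻¹ = x := by
        rw [← mem_centralizer_singleton_iff.1 hxw, mul_inv_cancel_right]
      have h6 : x ∈ cj g V₁ ⊓ cj g V₂ := by
        refine ⟨hx1, ?_⟩
        have h5 : w * x * w⁻¹ ∈ cj w (cj g V₁) := conj_mem_cj hx1
        rwa [h1, e] at h5
      rwa [block_disj h, mem_bot] at h6
    have hcC : Nat.card C ≤ 4 := by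
      have h5 := card_mul_card_le (X := C) (inf_le_left : C ≤ cj g U) (cjV₁_le h g) hCd
      rw [hcV, card_block h] at h5
      omega
    have hFeq : F = C := Subgroup.eq_of_le_of_card_ge hFC (by rw [hcF4]; exact hcC)
    intro u hu huw
    rw [hFeq]
    exact ⟨hu, mem_centralizer_singleton_iff.2 huw.symm⟩
  exact {
    card := hcF4
    z_mem := hz
    disj₁ := hd1
    disj₂ := hd2
    fix := hfix
    comm := hcomm
    surj := fun e he => by
      obtain ⟨v, hv⟩ := hφs ⟨e, he⟩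
      exact ⟨v, v.2, congrArg Subtype.val hv⟩
    swap₁ := h1
    swap₂ := h2 }

/-! ### weight vectors -/

theorem block_eq_iff (h : Cfg0 V₁ V₂ U H Q N A z) {n m : Γ} (hn : n ∈ N) (hm : m ∈ N) :
    cj n U = cj m U ↔ n⁻¹ * m ∈ Q := by
  have h1 : cj n U = cj m U ↔ n⁻¹ * m ∈ H := by
    rw [mem_H_iff h]
    constructor
    · intro e
      rw [← cj_cj, ← e, cj_inv_cj]
    · intro e
      rw [← cj_cj] at e
      have := congrArg (cj n) e
      rw [cj_cj_inv] at this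
      exact this.symm
  rw [h1, ← h.NH]
  exact ⟨fun h2 => ⟨N.mul_mem (N.inv_mem hn) hm, h2⟩, fun h2 => h2.2⟩

theorem conj_Q (h : Cfg0 V₁ V₂ U H Q N A z) (g : Γ) {q : Γ} (hq : q ∈ Q) : g * q * g⁻¹ ∈ Q := h.Qn.conj_mem q hq g

theorem conj_Q_iff (h : Cfg0 V₁ V₂ U H Q N A z) (g : Γ) {q : Γ} : g * q * g⁻¹ ∈ Q ↔ q ∈ Q := by
  refine ⟨fun h1 => ?_, conj_Q h g⟩
  have h2 := conj_Q h g⁻¹ h1
  have : g⁻¹ * (g * q * g⁻¹) * g⁻¹⁻¹ = q := by group
  rwa [this] at h2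

theorem A_le_H (h : Cfg0 V₁ V₂ U H Q N A z) : A ≤ H := by
  intro a ha
  rw [mem_H_iff h]
  exact cj_eq_of_comm (h.A_U a ha)

/-- `a ∈ A` fixes the block `U^n` iff it centralises `n` modulo `Q` -/
theorem fix_iff (h : Cfg0 V₁ V₂ U H Q N A z) {a n : Γ} (ha : a ∈ A) (hn : n ∈ N) :
    cj a (cj n U) = cj n U ↔ a * n * a⁻¹ * n⁻¹ ∈ Q := by
  have h1 : cj a (cj n U) = cj (a * n * a⁻¹) U := by
    have h2 : cj a⁻¹ U = U := cj_eq_of_comm (h.A_U a⁻¹ (A.inv_mem ha))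
    rw [← cj_cj (a * n) a⁻¹ U, h2, cj_cj]
  rw [h1, eq_comm, block_eq_iff h hn (h.Nn.conj_mem n hn a)]
  have e : a * n * a⁻¹ * n⁻¹ = n * (n⁻¹ * (a * n * a⁻¹)) * n⁻¹ := by group
  rw [e, conj_Q_iff h]

/-- existence of weight vectors in an `A`-invariant subgroup `Y`, `Q ≤ Y ≤ N`, not centralised by `a₀ ∈ A` -/
theorem exists_wt [Finite Γ] (h : Cfg0 V₁ V₂ U H Q N A z) {Y : Subgroup Γ} (hQY : Q ≤ Y) (hYN : Y ≤ N)
    (hAY : ∀ a ∈ A, ∀ y ∈ Y, a * y * a⁻¹ ∈ Y) {a₀ : Γ} (ha₀ : a₀ ∈ A)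
    (hy : ∃ y ∈ Y, a₀ * y * a₀⁻¹ * y⁻¹ ∉ Q) :
    ∃ y ∈ Y, Wt Q N A y ∧ a₀ * y * a₀⁻¹ * y ∈ Q ∧ a₀ * y * a₀⁻¹ * y⁻¹ ∉ Q := by
  have := h.Qn
  set π := QuotientGroup.mk' Q with hπ
  have hπ1 : ∀ x : Γ, π x = 1 ↔ x ∈ Q := fun x => QuotientGroup.eq_one_iff x
  have hodd : Odd (Nat.card (Y.map π)) := by
    have h1 : Nat.card (Y.map π) = Q.relIndex Y := by
      have h2 := Subgroup.card_mul_index (π.ker.subgroupOf Y)
      have h3 : Nat.card (Y.map π) = (π.ker.subgroupOf Y).index := by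
        have h4 : Y.map π = (π.domRestrict Y).range := (MonoidHom.domRestrict_range Y π).symm
        rw [h4, ← Subgroup.index_ker, MonoidHom.ker_domRestrict]
      rw [h3, hπ, QuotientGroup.ker_mk']
      rfl
    rw [h1]
    have h2 : Q.relIndex Y * Y.relIndex N = Q.relIndex N := relIndex_mul_relIndex _ _ _ hQY hYN
    have h3 := h.N_odd
    rw [← h2, Nat.odd_mul] at h3
    exact h3.1
  have hA2 : ∀ a ∈ A.map π, a * a = 1 := by
    rintro _ ⟨a, ha, rfl⟩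
    rw [← map_mul, h.A_sq a ha, map_one]
  have hAC : ∀ a ∈ A.map π, ∀ x ∈ Y.map π, a * x * a⁻¹ ∈ Y.map π := by
    rintro _ ⟨a, ha, rfl⟩ _ ⟨y, hy, rfl⟩
    exact ⟨a * y * a⁻¹, hAY a ha y hy, by rw [map_mul, map_mul, map_inv]⟩
  obtain ⟨y0, hy0, hy0'⟩ := hy
  obtain ⟨_, ⟨y, hyY, rfl⟩, hw, hinv, hne⟩ := DihedralBasis.exists_weight (A.map π) hA2 _ (Y.map π) le_rfl hodd hAC
    (π a₀) ⟨a₀, ha₀, rfl⟩ ⟨π y0, ⟨y0, hy0, rfl⟩, by
      intro e
      apply hy0'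
      rw [← hπ1, map_mul, map_mul, map_mul, map_inv, map_inv, e, mul_inv_cancel]⟩
  have hne' : a₀ * y * a₀⁻¹ * y⁻¹ ∉ Q := by
    rw [← hπ1, map_mul, map_mul, map_mul, map_inv, map_inv, hinv]
    intro e
    apply hne
    rw [mul_eq_one_iff_inv_eq, inv_inv] at e
    nth_rewrite 1 [e]
    rw [inv_mul_cancel]
  refine ⟨y, hyY, ⟨hYN hyY, ?_, ⟨a₀, ha₀, hne'⟩⟩, ?_, hne'⟩
  · intro a ha
    rcases hw (π a) ⟨a, ha, rfl⟩ with h1 | h1
    · left
      rw [← hπ1, map_mul, map_mul, map_mul, map_inv, map_inv, h1, mul_inv_cancel]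
    · right
      rw [← hπ1, map_mul, map_mul, map_mul, map_inv, h1, inv_mul_cancel]
  · rw [← hπ1, map_mul, map_mul, map_mul, map_inv, hinv, inv_mul_cancel]

/-- some weight vector exists -/
theorem exists_wt' [Finite Γ] (h : Cfg0 V₁ V₂ U H Q N A z) : ∃ y, Wt Q N A y := by
  obtain ⟨g, hg⟩ := h.A_ne
  have hAQ : ¬ A ≤ Q := by
    intro h1
    apply hg
    apply h.A_fix
    intro a ha
    rw [mem_normalizer_iff_cj, fix_block_iff h]
    have h2 := conj_Q h g⁻¹ (h1 ha)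
    rw [inv_inv] at h2
    exact (h.NH ▸ inf_le_right : Q ≤ H) h2
  obtain ⟨a, ha, haQ⟩ := SetLike.not_le_iff_exists.1 hAQ
  have h2 : ∃ y ∈ N, a * y * a⁻¹ * y⁻¹ ∉ Q := by
    by_contra hcon
    push Not at hcon
    exact haQ (h.faith a (A_le_H h ha) hcon)
  obtain ⟨y, -, hy, -⟩ := exists_wt h h.QN le_rfl (fun a _ y hy => h.Nn.conj_mem y hy a) ha h2
  exact ⟨y, hy⟩

/-- for a weight vector: the product of two elements inverting it centralises it modulo `Q` -/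
theorem Wt.mul (h : Cfg0 V₁ V₂ U H Q N A z) {y a b : Γ} (ha : a * y * a⁻¹ * y ∈ Q)
    (hb : b * y * b⁻¹ * y ∈ Q) : a * b * y * (a * b)⁻¹ * y⁻¹ ∈ Q := by
  have h1 : a * (b * y * b⁻¹ * y) * a⁻¹ ∈ Q := conj_Q h a hb
  -- a*b*y*b⁻¹*y*a⁻¹ = (a b y b⁻¹ a⁻¹) (a y a⁻¹)
  have h2 : a * b * y * (a * b)⁻¹ * y⁻¹ =
      (a * (b * y * b⁻¹ * y) * a⁻¹) * ((a * y * a⁻¹)⁻¹ * y⁻¹) := by group
  rw [h2]
  refine mul_mem h1 ?_
  have h3 : (a * y * a⁻¹)⁻¹ * y⁻¹ = (y * (a * y * a⁻¹ * y) * y⁻¹)⁻¹ := by group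
  rw [h3]
  exact inv_mem (conj_Q h y ha)

theorem Wt.mem_N (_ : Cfg0 V₁ V₂ U H Q N A z) {y : Γ} (hy : Wt Q N A y) : y ∈ N := hy.mem

/-- `|A : N_A(U^y)| = 2` -/
theorem wt_two (h : Cfg0 V₁ V₂ U H Q N A z) {y : Γ} (hy : Wt Q N A y) :
    (normalizer ((cj y U : Subgroup Γ) : Set Γ)).relIndex A = 2 := by
  obtain ⟨a₀, ha₀, hne⟩ := hy.nontriv
  have key : ∀ a ∈ A, a ∈ normalizer ((cj y U : Subgroup Γ) : Set Γ) ↔ a * y * a⁻¹ * y⁻¹ ∈ Q := by
    intro a ha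
    rw [mem_normalizer_iff_cj, fix_iff h ha hy.mem]
  refine relIndex_eq_two ha₀ ((key a₀ ha₀).not.2 hne) ?_
  intro a ha b hb han hbn
  rw [key a ha] at han
  rw [key b hb] at hbn
  rw [key _ (mul_mem ha hb)]
  exact Wt.mul h ((hy.cases a ha).resolve_left han) ((hy.cases b hb).resolve_left hbn)

theorem wt_not (h : Cfg0 V₁ V₂ U H Q N A z) {y : Γ} (hy : Wt Q N A y) :
    ¬ A ≤ centralizer ((cj y U : Subgroup Γ) : Set Γ) := by
  intro h1
  obtain ⟨a₀, ha₀, hne⟩ := hy.nontriv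
  apply hne
  rw [← fix_iff h ha₀ hy.mem]
  exact cj_eq_of_comm fun x hx => ((mem_centralizer_iff.1 (h1 ha₀)) x hx).symm

/-- `|A : C_A(U^y)| = 4`, and some `w ∈ A` normalises but does not centralise `U^y` -/
theorem wt_four' [Finite Γ] (h : Cfg0 V₁ V₂ U H Q N A z) {y : Γ} (hy : Wt Q N A y) :
    (centralizer ((cj y U : Subgroup Γ) : Set Γ)).relIndex A = 4 ∧
      ∃ w ∈ A, w * y * w⁻¹ * y⁻¹ ∈ Q ∧ ∃ u ∈ cj y U, w * u ≠ u * w := by
  set K := normalizer ((cj y U : Subgroup Γ) : Set Γ) ⊓ A with hK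
  set L := centralizer ((cj y U : Subgroup Γ) : Set Γ) ⊓ A with hL
  have hcn : centralizer ((cj y U : Subgroup Γ) : Set Γ) ≤ normalizer ((cj y U : Subgroup Γ) : Set Γ) :=
    centralizer_le_normalizer _
  have hLK : L ≤ K := inf_le_inf_right A hcn
  have h2 : K.relIndex A = 2 := by
    rw [hK, inf_relIndex_right]; exact wt_two h hy
  have h4 : 4 ≤ L.relIndex A := by
    rw [hL, inf_relIndex_right]; exact h.A_four y (wt_not h hy)
  have hm : L.relIndex K * K.relIndex A = L.relIndex A := relIndex_mul_relIndex _ _ _ hLK inf_le_right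
  have hne : ∃ w ∈ K, w ∉ L := by
    apply Cfsg.Agent.ZN.Block.exists_not_mem_of_relIndex
    intro e
    rw [e, h2] at hm
    omega
  obtain ⟨w, hwK, hwL⟩ := hne
  have key : ∀ a ∈ K, a ∉ L → ∃ u ∈ cj y U, a * u ≠ u * a := by
    intro a haK haL
    by_contra hcon
    push Not at hcon
    exact haL ⟨mem_centralizer_iff.2 fun u hu => (hcon u hu).symm, haK.2⟩
  have h2' : L.relIndex K = 2 := by
    refine relIndex_eq_two hwK hwL ?_
    intro a ha b hb haL hbL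
    have h5 := mul_cent h ha.2 hb.2 (mem_normalizer_iff_cj.1 ha.1) (mem_normalizer_iff_cj.1 hb.1)
      (key a ha haL) (key b hb hbL)
    exact ⟨mem_centralizer_iff.2 fun u hu => (h5 u hu).symm, mul_mem ha.2 hb.2⟩
  refine ⟨?_, w, hwK.2, ?_, key w hwK hwL⟩
  · rw [h2', h2, hL, inf_relIndex_right] at hm
    exact hm.symm
  · rw [← fix_iff h hwK.2 hy.mem]
    exact mem_normalizer_iff_cj.1 hwK.1

theorem wt_four [Finite Γ] (h : Cfg0 V₁ V₂ U H Q N A z) {y : Γ} (hy : Wt Q N A y) :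
    (centralizer ((cj y U : Subgroup Γ) : Set Γ)).relIndex A = 4 := (wt_four' h hy).1

theorem exists_w [Finite Γ] (h : Cfg0 V₁ V₂ U H Q N A z) {y : Γ} (hy : Wt Q N A y) :
    ∃ w ∈ A, w * y * w⁻¹ * y⁻¹ ∈ Q ∧ ∃ u ∈ cj y U, w * u ≠ u * w := (wt_four' h hy).2

end Cfg

end Cfsg.Agent.MinSimple.Omega.Facts
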