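import Cfsg.Agent.MinSimple.Omega.Derive
import Cfsg.Agent.MinSimple.CaseDivRl
import Cfsg.Agent.MinSimple.CaseDDefs

/-!
# Case (Omega): `U ≤ O₂(C_G(z))` from Theorem D

`ctx : Amb G → Omega S V x U z → ¬ U ≤ O₂(C_G(z)) → Ctx S (N_G(U)) (C_G(z)) U`, where
`CaseDDefs.Ctx` are the hypotheses of Theorem D together with its negated conclusion.
-/

set_option autoImplicit false

namespace Cfsg.Agent.MinSimple.Omega.Plug

open Subgroup Cfsg Cfsg.Agent.ZN Cfsg.Agent.MinSimple
open Cfsg.Agent.MinSimple.DBlkApi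
open Cfsg.Agent.MinSimple.Geo (cj mem_cj cj_cj cj_one cj_inv_cj cj_cj_inv cj_mono cj_le_iff
  cj_le_cj mem_normalizer_iff_cj cj_inf cj_normalizer cj_centralizer_singleton)
open Cfsg.Agent.MinSimple.Omega.Defs Cfsg.Agent.MinSimple.Omega.Derive

universe u

variable {G : Type u} [Group G] {S : Sylow 2 G} {n : ℕ} {V : Fin n → Subgroup G}
  {x : Fin n → G} {U : Subgroup G} {z : G}

/-- An element of `S` permutes the points. -/
theorem conj_x (h : Omega S V x U z) {s : G} (hs : s ∈ (S : Subgroup G)) (i : Fin n) :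
    ∃ j, cj s (V i) = V j ∧ s * x i * s⁻¹ = x j := by
  obtain ⟨j, hj⟩ := h.perm s (h.S_le hs) i
  obtain ⟨L, k, hk, hv, hp, -⟩ := h.blk j
  refine ⟨j, hj, hp.unique hk ⟨?_, ?_, fun h0 => x1 h i (conj_eq_one_iff.mp h0)⟩⟩
  · rw [hv, ← hj]
    exact ⟨x i, xV h i, rfl⟩
  · exact Four.conj_mem (normalizer_le_normalizer_zc _ (le_normalizer_bau _ hs)) (xz h i)

/-- The element `y` acting fixed-point-freely on `V i` and trivially on the other `V j`. -/
theorem exists_y (h : Omega S V x U z) (i : Fin n) : ∃ y ∈ normalizer (U : Set G),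
    cj y (V i) = V i ∧ (∀ v ∈ V i, y * v * y⁻¹ = v → v = 1) ∧
      ∀ j, j ≠ i → ∀ v ∈ V j, y * v * y⁻¹ = v := by
  obtain ⟨y, hy, hfix, hj⟩ := h.y i
  have hj' : ∀ j, j ≠ i → ∀ v ∈ V j, y * v * y⁻¹ = v := fun j h0 v hv =>
    Four.conj_eq_iff_comm.mpr (hj j h0 v hv)
  exact ⟨y, hy, y_norm h hy hj', hfix, hj'⟩

/-- `O₂(M / C_M(U)) = 1`. -/
theorem core_aux (h : Omega S V x U z) {D : Subgroup G} (hDM : normalizer (U : Set G) ≤ normalizer (D : Set G))
    (hD : ∀ d ∈ D, ∃ c ∈ centralizer (U : Set G), ∃ s ∈ (S : Subgroup G), d = c * s) :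
    D ≤ centralizer (U : Set G) := by
  -- the elements of `D` permute the points
  have hpt : ∀ d ∈ D, ∀ i, ∃ j, cj d (V i) = V j ∧ d * x i * d⁻¹ = x j := by
    intro d hd i
    obtain ⟨c, hc, s, hs, rfl⟩ := hD d hd
    obtain ⟨j, hj, hx⟩ := conj_x h hs i
    have hcV : ∀ v ∈ U, c * v * c⁻¹ = v := Four.mem_cent_iff.mp hc
    refine ⟨j, ?_, ?_⟩
    · rw [← cj_cj, hj]
      apply le_antisymm
      · rintro _ ⟨v, hv, rfl⟩
        change c * v * c⁻¹ ∈ V j
        rwa [hcV v (V_le h j hv)]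
      · intro v hv
        exact ⟨v, hv, hcV v (V_le h j hv)⟩
    · calc c * s * x i * (c * s)⁻¹ = c * (s * x i * s⁻¹) * c⁻¹ := by group
        _ = x j := by rw [hx, hcV _ (V_le h j (xV h j))]
  -- they fix the points
  have hfx : ∀ d ∈ D, ∀ i, cj d (V i) = V i ∧ d * x i * d⁻¹ = x i := by
    intro d hd i
    obtain ⟨j, hj, hx⟩ := hpt d hd i
    by_cases hji : j = i
    · rw [hji] at hj hx
      exact ⟨hj, hx⟩
    exfalso
    obtain ⟨y, hy, hyV, hyf, hyj⟩ := exists_y h i
    have hd' : y⁻¹ * d * y ∈ D := Four.conj_mem' (hDM hy) hd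
    obtain ⟨l, hl, hxl⟩ := hpt _ hd' i
    -- `d (y x_i y⁻¹) d⁻¹ = y x_l y⁻¹`
    have h1 : d * (y * x i * y⁻¹) * d⁻¹ = y * x l * y⁻¹ := by rw [← hxl]; group
    have hyx : y * x i * y⁻¹ ∈ V i := by
      rw [← hyV]
      exact ⟨x i, xV h i, rfl⟩
    have h2 : y * x l * y⁻¹ ∈ V j := by
      rw [← h1, ← hj]
      exact ⟨_, hyx, rfl⟩
    have hyj' : cj y (V j) = V j := by
      apply le_antisymm
      · rintro _ ⟨v, hv, rfl⟩
        change y * v * y⁻¹ ∈ V j
        rwa [hyj j hji v hv]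
      · intro v hv
        exact ⟨v, hv, hyj j hji v hv⟩
    have h3 : x l ∈ V j := by
      rw [← hyj', mem_cj] at h2
      have e : y⁻¹ * (y * x l * y⁻¹) * y = x l := by group
      rwa [e] at h2
    have h4 : l = j := eq_of_mem h (xV h l) h3 (x1 h l)
    rw [h4, hyj j hji _ (xV h j), ← hx] at h1
    have h5 : y * x i * y⁻¹ = x i := by
      have : d⁻¹ * (d * (y * x i * y⁻¹) * d⁻¹) * d = d⁻¹ * (d * x i * d⁻¹) * d := by rw [h1]
      calc y * x i * y⁻¹ = d⁻¹ * (d * (y * x i * y⁻¹) * d⁻¹) * d := by group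
        _ = d⁻¹ * (d * x i * d⁻¹) * d := this
        _ = x i := by group
    exact x1 h i (hyf _ (xV h i) h5)
  have hfV : ∀ i, D ≤ centralizer (V i : Set G) := by
    intro i d hd
    obtain ⟨hdV, hdx⟩ := hfx d hd i
    obtain ⟨y, hy, hyV, hyf, hyj⟩ := exists_y h i
    have hd' : y⁻¹ * d * y ∈ D := Four.conj_mem' (hDM hy) hd
    obtain ⟨-, hdx'⟩ := hfx _ hd' i
    have h1 : d * (y * x i * y⁻¹) * d⁻¹ = y * x i * y⁻¹ := by
      calc d * (y * x i * y⁻¹) * d⁻¹ = y * ((y⁻¹ * d * y) * x i * (y⁻¹ * d * y)⁻¹) * y⁻¹ := by group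
        _ = y * x i * y⁻¹ := by rw [hdx']
    have hyx : y * x i * y⁻¹ ∈ V i := by
      rw [← hyV]
      exact ⟨x i, xV h i, rfl⟩
    exact Four.cent_of_two (h.card i) (vsq h i) (xV h i) hyx (x1 h i)
      (fun h0 => x1 h i (conj_eq_one_iff.mp h0))
      (fun h0 => x1 h i (hyf _ (xV h i) h0.symm)) hdx h1
  intro d hd
  have h1 : U ≤ centralizer ({d} : Set G) := by
    conv_lhs => rw [h.U_eq]
    refine iSup_le fun i v hv => ?_
    rw [mem_centralizer_singleton_iff]
    exact mem_centralizer_iff.mp (hfV i hd) v hv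
  rw [mem_centralizer_iff]
  exact fun u hu => mem_centralizer_singleton_iff.mp (h1 hu)

/-- `C_U(M) = 1`. -/
theorem inf_centralizer (h : Omega S V x U z) :
    U ⊓ centralizer (normalizer (U : Set G) : Set G) = ⊥ := by
  rw [eq_bot_iff]
  rintro u ⟨hu, huM⟩
  rw [mem_bot]
  by_contra hu1
  have h1 : u ∈ ZN.zc (S : Subgroup G) := by
    refine mem_zc.mpr ⟨bau_le _ (U_le_bau h hu), fun s hs => ?_, h.sq u hu⟩
    exact mem_centralizer_iff.mp huM s (h.S_le hs)
  have hz2 : z ^ 2 = 1 := h.sq z (z_mem h)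
  rw [h.zc, zpowers_eq hz2] at h1
  have huz : u = z := h1.resolve_left hu1
  rw [huz] at huM
  obtain ⟨i⟩ : Nonempty (Fin n) := ⟨⟨0, by have := h.two_le; omega⟩⟩
  obtain ⟨y, hy, -, hyf, hyj⟩ := exists_y h i
  have h2 : y * z * y⁻¹ = z := Four.conj_eq_iff_comm.mpr (mem_centralizer_iff.mp huM y hy)
  -- `y` centralizes `co V i`
  have h3 : co V i ≤ centralizer ({y} : Set G) := by
    refine iSup_le fun j v hv => ?_
    rw [mem_centralizer_singleton_iff]
    exact (Four.conj_eq_iff_comm.mp (hyj j j.2 v hv)).symm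
  -- `x i * z ∈ co V i`
  have h4 : x i * z ∈ co V i := by
    have e : (List.ofFn x).prod = z := h.z_eq.symm
    have hsplit : ∀ {n : ℕ} (x : Fin n → G) (V : Fin n → Subgroup G) (i : Fin n),
        (∀ j, x j ∈ V j) → (∀ j, x j ^ 2 = 1) → (∀ j l, x j * x l = x l * x j) →
        x i * (List.ofFn x).prod ∈ co V i := by
      intro n
      induction n with
      | zero => intro x V i; exact i.elim0
      | succ n ih =>
        intro x V i hxV hsq hcm
        rw [List.ofFn_succ, List.prod_cons]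
        rcases Fin.eq_zero_or_eq_succ i with rfl | ⟨j, rfl⟩
        · have h5 := hsq 0
          rw [pow_two] at h5
          rw [← mul_assoc, h5, one_mul]
          refine Subgroup.list_prod_mem _ fun y hy => ?_
          obtain ⟨l, rfl⟩ := (List.mem_ofFn' _ _).mp hy
          exact V_le_co (Fin.succ_ne_zero l) (hxV l.succ)
        · have h5 := ih (fun l => x l.succ) (fun l => V l.succ) j (fun l => hxV _)
            (fun l => hsq _) (fun l m => hcm _ _)
          have h6 : co (fun l => V (Fin.succ l)) j ≤ co V j.succ :=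
            iSup_le fun l => V_le_co (fun h0 => l.2 (Fin.succ_injective _ h0))
          rw [← mul_assoc, hcm j.succ 0, mul_assoc]
          exact mul_mem (V_le_co (Fin.succ_ne_zero j).symm (hxV 0)) (h6 h5)
    rw [← e]
    exact hsplit x V i (xV h) (fun j => vsq h j _ (xV h j))
      (fun j l => h.comm _ (V_le h j (xV h j)) _ (V_le h l (xV h l)))
  have h5 := mem_centralizer_singleton_iff.mp (h3 h4)
  have h6 : y * x i * y⁻¹ = x i := by
    calc y * x i * y⁻¹ = (y * (x i * z) * y⁻¹) * (y * z * y⁻¹)⁻¹ := by group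
      _ = (x i * z) * z⁻¹ := by rw [h2, Four.conj_eq_iff_comm.mpr h5.symm]
      _ = x i := by group
  exact x1 h i (hyf _ (xV h i) h6)

/-- **The hypotheses of Theorem D.** -/
theorem ctx [Finite G] (hA : Amb G) (h : Omega S V x U z)
    (hn : ¬ U ≤ o2 (centralizer ({z} : Set G))) :
    CaseDDefs.Ctx (S : Subgroup G) (normalizer (U : Set G)) (centralizer ({z} : Set G)) U := by
  have hz2 : z ^ 2 = 1 := h.sq z (z_mem h)
  have hU2 : IsPGroup 2 U := by
    rintro ⟨u, hu⟩
    exact ⟨1, Subtype.ext (by simpa using h.sq u hu)⟩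
  obtain ⟨i⟩ : Nonempty (Fin n) := ⟨⟨0, by have := h.two_le; omega⟩⟩
  have hU1 : U ≠ ⊥ := by
    intro h0
    have := V_le h i (xV h i)
    rw [h0, mem_bot] at this
    exact x1 h i this
  have hsolP : Group.IsSolvable (normalizer (U : Set G)) :=
    hA.solv _ (Basic.isTwoLocal_normalizer hU2 hU1)
  have hsylP := Basic.not_dvd_relIndex S h.S_le
  exact
    { hloc := fun R hR hR1 => hA.solv _ (Basic.isTwoLocal_normalizer hR hR1)
      S2 := S.isPGroup'
      SP := h.S_le
      SP₂ := S_le_C h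
      sylP := hsylP
      sylP₂ := Basic.not_dvd_relIndex S (S_le_C h)
      solP := hsolP
      solP₂ := by
        have h1 := hA.solv _ (Basic.isTwoLocal_normalizer (Basic.isPGroup_zpowers hz2)
          (fun h0 => z_ne h (zpowers_eq_bot.mp h0)))
        rwa [Basic.normalizer_zpowers_eq hz2] at h1
      Zne := ZN.zc_ne_bot S.isPGroup' (S_ne_bot h)
      VS := (U_le_bau h).trans (bau_le _)
      ZV := by
        rw [h.zc, zpowers_le]
        exact z_mem h
      PV := le_rfl
      Vcomm := h.comm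
      Vsq := fun v hv => by rw [← pow_two]; exact h.sq v hv
      core := fun N hNM hN hpow => core_aux h hN fun d hd =>
        CaseDiv.exists_mul_of_pow h.S_le S.isPGroup' hsylP hNM hN (DBlkReduce.nc _) hpow hd
      CVP := inf_centralizer h
      Z₂ := by
        intro c hc
        rw [mem_centralizer_singleton_iff] at hc
        rw [h.zc, mem_centralizer_iff]
        intro w hw
        rcases (zpowers_eq hz2).mp hw with rfl | rfl
        · simp
        · exact hc.symm
      char := Basic.char2_centralizer hA.char2 hz2 (z_ne h)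
      Vnle := hn }

/-- `U ≤ O₂(C_G(z))`, from Theorem D. -/
theorem U_le_o2 [Finite G] (hA : Amb G) (h : Omega S V x U z)
    (hD : ∀ S P P₂ V : Subgroup G, CaseDDefs.Ctx S P P₂ V → False) :
    U ≤ o2 (centralizer ({z} : Set G)) := by
  by_contra hn
  exact hD _ _ _ _ (ctx hA h hn)

/-- **From (Omega) to the abstract setting, given Theorem D.** -/
theorem om [Finite G] (hA : Amb G) (h : Omega S V x U z)
    (hD : ∀ S P P₂ V : Subgroup G, CaseDDefs.Ctx S P P₂ V → False) : Om V U z :=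
  Derive.main hA h (U_le_o2 hA h hD)

end Cfsg.Agent.MinSimple.Omega.Plug
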