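import Mathlib
import Cfsg.Agent.ZN.Block

/-!
# Core theorem T, case (Omega): codimension of the fixed points of a dihedral system

`P` an elementary abelian 2-group, `β i`, `η i` (`i ∈ J`) automorphisms, `β i` commuting involutions, `η i` commuting
automorphisms of odd order, `β i` inverts `η i` and commutes with `η j`, `j ≠ i`.  Then
`|P : C_P(β)| ≥ 2 ^ #{i | η i ≠ 1 on P}`, and in case of equality `|P : C_P(η i)| = 4` whenever `η i ≠ 1` on `P`.
-/

set_option autoImplicit false
set_option linter.unusedSectionVars false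

namespace Cfsg.Agent.MinSimple.Omega.Sec

open Subgroup

variable {Γ : Type*} [Group Γ] {ι : Type*}

/-- fixed points of an automorphism -/
def fx (f : MulAut Γ) : Subgroup Γ where
  carrier := {p | f p = p}
  mul_mem' := by
    intro a b ha hb
    change f (a * b) = a * b
    rw [map_mul, show f a = a from ha, show f b = b from hb]
  one_mem' := map_one f
  inv_mem' := by
    intro a ha
    change f a⁻¹ = a⁻¹
    rw [map_inv, show f a = a from ha]

theorem mem_fx {f : MulAut Γ} {p : Γ} : p ∈ fx f ↔ f p = p := Iff.rfl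

/-- common fixed points of the `β i`, `i ∈ J` -/
def fb (β : ι → MulAut Γ) (J : Finset ι) : Subgroup Γ where
  carrier := {p | ∀ i ∈ J, β i p = p}
  mul_mem' := by
    intro a b ha hb i hi
    rw [map_mul, ha i hi, hb i hi]
  one_mem' := fun i _ => map_one (β i)
  inv_mem' := by
    intro a ha i hi
    rw [map_inv, ha i hi]

theorem mem_fb {β : ι → MulAut Γ} {J : Finset ι} {p : Γ} : p ∈ fb β J ↔ ∀ i ∈ J, β i p = p := Iff.rfl

/-- a dihedral system acting on the elementary abelian 2-group `P` -/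
structure Act (β η : ι → MulAut Γ) (J : Finset ι) (P : Subgroup Γ) : Prop where
  comm : ∀ p ∈ P, ∀ q ∈ P, p * q = q * p
  sq : ∀ p ∈ P, p * p = 1
  βP : ∀ i ∈ J, ∀ p ∈ P, β i p ∈ P
  ηP : ∀ i ∈ J, ∀ p ∈ P, η i p ∈ P
  ββ : ∀ i ∈ J, ∀ p ∈ P, β i (β i p) = p
  βc : ∀ i ∈ J, ∀ j ∈ J, ∀ p ∈ P, β i (β j p) = β j (β i p)
  βη : ∀ i ∈ J, ∀ j ∈ J, i ≠ j → ∀ p ∈ P, β i (η j p) = η j (β i p)
  ηη : ∀ i ∈ J, ∀ j ∈ J, ∀ p ∈ P, η i (η j p) = η j (η i p)
  inv : ∀ i ∈ J, ∀ p ∈ P, η i (β i (η i p)) = β i p
  odd : ∀ i ∈ J, ∀ p ∈ P, η i (η i p) = p → η i p = p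

namespace Act

variable {β η : ι → MulAut Γ} {J : Finset ι} {P : Subgroup Γ}

theorem mono (h : Act β η J P) {K : Finset ι} {Q : Subgroup Γ} (hK : K ⊆ J) (hQ : Q ≤ P)
    (hβ : ∀ i ∈ K, ∀ p ∈ Q, β i p ∈ Q) (hη : ∀ i ∈ K, ∀ p ∈ Q, η i p ∈ Q) : Act β η K Q where
  comm p hp q hq := h.comm p (hQ hp) q (hQ hq)
  sq p hp := h.sq p (hQ hp)
  βP := hβ
  ηP := hη
  ββ i hi p hp := h.ββ i (hK hi) p (hQ hp)
  βc i hi j hj p hp := h.βc i (hK hi) j (hK hj) p (hQ hp)
  βη i hi j hj hij p hp := h.βη i (hK hi) j (hK hj) hij p (hQ hp)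
  ηη i hi j hj p hp := h.ηη i (hK hi) j (hK hj) p (hQ hp)
  inv i hi p hp := h.inv i (hK hi) p (hQ hp)
  odd i hi p hp := h.odd i (hK hi) p (hQ hp)

/-- the kernel/image count for `p ↦ p * f p` on an elementary abelian group -/
theorem card_aux [Finite Γ] {Q : Subgroup Γ} (hcomm : ∀ p ∈ Q, ∀ q ∈ Q, p * q = q * p)
    (hsq : ∀ p ∈ Q, p * p = 1) (f : MulAut Γ) (hf : ∀ p ∈ Q, f p ∈ Q) :
    ∃ R : Subgroup Γ, (∀ x, x ∈ R ↔ ∃ q ∈ Q, x = q * f q) ∧
      Nat.card ↥(Q ⊓ fx f) * Nat.card R = Nat.card Q := by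
  let δ : Q →* Γ := {
    toFun := fun q => (q : Γ) * f q
    map_one' := by simp
    map_mul' := by
      intro a b
      have h1 := hcomm (b : Γ) b.2 (f a) (hf a a.2)
      change (a : Γ) * b * f ((a : Γ) * b) = (a : Γ) * f a * ((b : Γ) * f b)
      rw [map_mul]
      calc (a : Γ) * b * (f a * f b) = a * (b * f a) * f b := by group
        _ = a * (f a * b) * f b := by rw [h1]
        _ = _ := by group }
  refine ⟨δ.range, ?_, ?_⟩
  · intro x
    constructor
    · rintro ⟨q, rfl⟩
      exact ⟨q, q.2, rfl⟩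
    · rintro ⟨q, hq, rfl⟩
      exact ⟨⟨q, hq⟩, rfl⟩
  · have h1 : Nat.card δ.ker * Nat.card δ.range = Nat.card Q := by
      rw [← Subgroup.index_ker, Subgroup.card_mul_index]
    rw [← h1]
    congr 1
    refine Nat.card_congr ⟨fun x => ⟨⟨x, x.2.1⟩, ?_⟩, fun x => ⟨x.1, x.1.2, ?_⟩, fun _ => rfl, fun _ => rfl⟩
    · change (x : Γ) * f x = 1
      have h2 : f (x : Γ) = x := x.2.2
      rw [h2]
      exact hsq x x.2.1
    · have h2 : ((x : Q) : Γ) * f x = 1 := x.2
      change f ((x : Q) : Γ) = x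
      have h3 := hsq (x : Q) x.1.2
      calc f ((x : Q) : Γ) = ((x : Q) : Γ) * ((x : Q) : Γ) * f x := by rw [h3, one_mul]
        _ = x * (x * f x) := by group
        _ = x := by rw [h2, mul_one]

end Act

open Act

/-- the set of indices acting nontrivially -/
noncomputable def act (η : ι → MulAut Γ) (J : Finset ι) (P : Subgroup Γ) : Finset ι := by
  classical exact J.filter fun i => ∃ p ∈ P, η i p ≠ p

theorem mem_act {η : ι → MulAut Γ} {J : Finset ι} {P : Subgroup Γ} {i : ι} :
    i ∈ act η J P ↔ i ∈ J ∧ ∃ p ∈ P, η i p ≠ p := by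
  classical
  rw [act, Finset.mem_filter]

/-- The main estimate. -/
theorem main [Finite Γ] (β η : ι → MulAut Γ) (n : ℕ) : ∀ (J : Finset ι) (P : Subgroup Γ), J.card = n →
    Act β η J P →
    2 ^ (act η J P).card * Nat.card ↥(P ⊓ fb β J) ≤ Nat.card P ∧
    (2 ^ (act η J P).card * Nat.card ↥(P ⊓ fb β J) = Nat.card P →
      ∀ j ∈ act η J P, Nat.card P = 4 * Nat.card ↥(P ⊓ fx (η j))) := by
  classical
  induction n with
  | zero =>
    intro J P hJ h
    rw [Finset.card_eq_zero] at hJ
    subst hJ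
    have h0 : act η ∅ P = ∅ := by
      ext i; rw [mem_act]; simp
    rw [h0]
    refine ⟨?_, fun _ j hj => absurd hj (Finset.notMem_empty j)⟩
    rw [Finset.card_empty, pow_zero, one_mul]
    exact Nat.card_le_card_of_injective _ (Subgroup.inclusion_injective (inf_le_left : P ⊓ fb β ∅ ≤ P))
  | succ n ih =>
    intro J P hJ h
    have key : ∀ j ∈ act η J P,
        2 ^ (act η J P).card * Nat.card ↥(P ⊓ fb β J) ≤ Nat.card P ∧
        (2 ^ (act η J P).card * Nat.card ↥(P ⊓ fb β J) = Nat.card P →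
          Nat.card P = 4 * Nat.card ↥(P ⊓ fx (η j))) := by
      intro j hj
      rw [mem_act] at hj
      obtain ⟨hjJ, p0, hp0, hp0'⟩ := hj
      set K := J.erase j with hK
      have hKJ : K ⊆ J := Finset.erase_subset _ _
      have hKc : K.card = n := by rw [hK, Finset.card_erase_of_mem hjJ, hJ]; rfl
      have hne : ∀ i ∈ K, i ≠ j := fun i hi => Finset.ne_of_mem_erase hi
      set P0 := P ⊓ fx (η j) with hP0
      obtain ⟨P1, hP1, hc1⟩ := card_aux h.comm h.sq (η j) (h.ηP j hjJ)
      have hP1P : P1 ≤ P := by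
        intro x hx
        obtain ⟨q, hq, rfl⟩ := (hP1 x).1 hx
        exact P.mul_mem hq (h.ηP j hjJ q hq)
      have hP0P : P0 ≤ P := inf_le_left
      -- stability
      have hβ0 : ∀ i ∈ K, ∀ p ∈ P0, β i p ∈ P0 := by
        rintro i hi p ⟨hp, hpf⟩
        refine ⟨h.βP i (hKJ hi) p hp, ?_⟩
        change η j (β i p) = β i p
        rw [← h.βη i (hKJ hi) j hjJ (hne i hi) p hp, show η j p = p from hpf]
      have hη0 : ∀ i ∈ K, ∀ p ∈ P0, η i p ∈ P0 := by
        rintro i hi p ⟨hp, hpf⟩
        refine ⟨h.ηP i (hKJ hi) p hp, ?_⟩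
        change η j (η i p) = η i p
        rw [← h.ηη i (hKJ hi) j hjJ p hp, show η j p = p from hpf]
      have hβ1 : ∀ i ∈ K, ∀ p ∈ P1, β i p ∈ P1 := by
        intro i hi p hp
        obtain ⟨q, hq, rfl⟩ := (hP1 p).1 hp
        refine (hP1 _).2 ⟨β i q, h.βP i (hKJ hi) q hq, ?_⟩
        rw [map_mul, h.βη i (hKJ hi) j hjJ (hne i hi) q hq]
      have hη1 : ∀ i ∈ K, ∀ p ∈ P1, η i p ∈ P1 := by
        intro i hi p hp
        obtain ⟨q, hq, rfl⟩ := (hP1 p).1 hp
        refine (hP1 _).2 ⟨η i q, h.ηP i (hKJ hi) q hq, ?_⟩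
        rw [map_mul, h.ηη i (hKJ hi) j hjJ q hq]
      have hβj0 : ∀ p ∈ P0, β j p ∈ P0 := by
        rintro p ⟨hp, hpf⟩
        refine ⟨h.βP j hjJ p hp, ?_⟩
        change η j (β j p) = β j p
        have := h.inv j hjJ p hp
        rwa [show η j p = p from hpf] at this
      have hβj1 : ∀ p ∈ P1, β j p ∈ P1 := by
        intro p hp
        obtain ⟨q, hq, rfl⟩ := (hP1 p).1 hp
        refine (hP1 _).2 ⟨β j (η j q), h.βP j hjJ _ (h.ηP j hjJ q hq), ?_⟩
        rw [map_mul, h.inv j hjJ q hq]
        exact h.comm _ (h.βP j hjJ q hq) _ (h.βP j hjJ _ (h.ηP j hjJ q hq))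
      have hηj1 : ∀ p ∈ P1, η j p ∈ P1 := by
        intro p hp
        obtain ⟨q, hq, rfl⟩ := (hP1 p).1 hp
        exact (hP1 _).2 ⟨η j q, h.ηP j hjJ q hq, map_mul _ _ _⟩
      have h01 : P0 ⊓ P1 = ⊥ := by
        rw [eq_bot_iff]
        rintro x ⟨⟨hx, hxf⟩, hx1⟩
        obtain ⟨q, hq, rfl⟩ := (hP1 x).1 hx1
        rw [mem_bot]
        have h1 : η j (q * η j q) = q * η j q := hxf
        rw [map_mul] at h1
        have h2 : η j (η j q) = q := by
          have e : q * η j q = η j q * q := h.comm q hq _ (h.ηP j hjJ q hq)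
          rw [e] at h1
          exact mul_left_cancel h1
        rw [h.odd j hjJ q hq h2]
        exact h.sq q hq
      have hsup : P0 ⊔ P1 = P := by
        apply Subgroup.eq_of_le_of_card_ge (sup_le hP0P hP1P)
        have h1 := Cfsg.Agent.ZN.Block.card_sup_mul_card_inf (H := P0) (N := P1) (by
          intro x hx
          rw [mem_normalizer_iff]
          intro y
          constructor
          · intro hy
            rwa [h.comm x (hP0P hx) y (hP1P hy), mul_inv_cancel_right]
          · intro hy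
            have h2 := h.comm x (hP0P hx) _ (hP1P hy)
            have h3 : y = x * y * x⁻¹ := by
              have h4 : x * (x * y * x⁻¹) = x * y := by rw [h2]; group
              exact (mul_left_cancel h4).symm
            rw [h3]; exact hy)
        rw [h01, Subgroup.card_bot, mul_one] at h1
        rw [h1, hP0, hc1]
      have hdec : ∀ p ∈ P, ∃ a ∈ P0, ∃ b ∈ P1, p = a * b := by
        intro p hp
        rw [← hsup] at hp
        let D : Subgroup Γ := {
          carrier := {p | ∃ a ∈ P0, ∃ b ∈ P1, a * b = p}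
          one_mem' := ⟨1, one_mem _, 1, one_mem _, one_mul 1⟩
          mul_mem' := by
            rintro x y ⟨a, ha, b, hb, rfl⟩ ⟨c, hc, d, hd, rfl⟩
            refine ⟨a * c, P0.mul_mem ha hc, b * d, P1.mul_mem hb hd, ?_⟩
            have e := h.comm b (hP1P hb) c (hP0P hc)
            calc a * c * (b * d) = a * (c * b) * d := by group
              _ = a * (b * c) * d := by rw [e]
              _ = a * b * (c * d) := by group
          inv_mem' := by
            rintro x ⟨a, ha, b, hb, rfl⟩
            refine ⟨a⁻¹, P0.inv_mem ha, b⁻¹, P1.inv_mem hb, ?_⟩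
            have e := h.comm a (hP0P ha) b (hP1P hb)
            rw [e, mul_inv_rev] }
        have hD0 : P0 ≤ D := fun x hx => ⟨x, hx, 1, one_mem _, mul_one x⟩
        have hD1 : P1 ≤ D := fun x hx => ⟨1, one_mem _, x, hx, one_mul x⟩
        have h1 : ∃ a ∈ P0, ∃ b ∈ P1, a * b = p := (sup_le hD0 hD1) hp
        obtain ⟨a, ha, b, hb, e⟩ := h1
        exact ⟨a, ha, b, hb, e.symm⟩
      -- the fixed points of `β j` on `P1`
      set P2 := P1 ⊓ fx (β j) with hP2
      have hP2P1 : P2 ≤ P1 := inf_le_left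
      obtain ⟨R, hR, hcR⟩ := card_aux (Q := P1) (fun p hp q hq => h.comm p (hP1P hp) q (hP1P hq))
        (fun p hp => h.sq p (hP1P hp)) (β j) hβj1
      have hRP2 : R ≤ P2 := by
        intro x hx
        obtain ⟨q, hq, rfl⟩ := (hR x).1 hx
        refine ⟨P1.mul_mem hq (hβj1 q hq), ?_⟩
        change β j (q * β j q) = q * β j q
        rw [map_mul, h.ββ j hjJ q (hP1P hq)]
        exact (h.comm q (hP1P hq) _ (hP1P (hβj1 q hq))).symm
      have hcR' : Nat.card P1 ≤ Nat.card P2 * Nat.card P2 := by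
        rw [← hcR]
        exact Nat.mul_le_mul_left _ (Nat.card_le_card_of_injective _ (Subgroup.inclusion_injective hRP2))
      set P3 := P2.map (η j).toMonoidHom with hP3
      have hP3P1 : P3 ≤ P1 := by
        rintro _ ⟨x, hx, rfl⟩
        exact hηj1 x (hP2P1 hx)
      have h23 : P2 ⊓ P3 = ⊥ := by
        rw [eq_bot_iff]
        rintro _ ⟨hx, ⟨x, hx', rfl⟩⟩
        rw [mem_bot]
        have hx1 : β j (η j x) = η j x := hx.2
        have hx2 : β j x = x := hx'.2
        have hxP : x ∈ P := hP1P (hP2P1 hx')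
        have h1 := h.inv j hjJ x hxP
        rw [hx1, hx2] at h1
        have h2 := h.odd j hjJ x hxP h1
        have h3 : x ∈ P0 ⊓ P1 := ⟨⟨hxP, h2⟩, hP2P1 hx'⟩
        rw [h01, mem_bot] at h3
        change η j x = 1
        rw [h3, map_one]
      have hc3 : Nat.card P3 = Nat.card P2 :=
        (Nat.card_congr (P2.equivMapOfInjective _ (η j).injective).toEquiv).symm
      have hcomm23 : P2 ≤ normalizer (P3 : Set Γ) := by
        intro x hx
        rw [mem_normalizer_iff]
        intro y
        constructor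
        · intro hy
          rwa [h.comm x (hP1P (hP2P1 hx)) y (hP1P (hP3P1 hy)), mul_inv_cancel_right]
        · intro hy
          have h2 := h.comm x (hP1P (hP2P1 hx)) _ (hP1P (hP3P1 hy))
          have h3 : y = x * y * x⁻¹ := by
            have h4 : x * (x * y * x⁻¹) = x * y := by rw [h2]; group
            exact (mul_left_cancel h4).symm
          rw [h3]; exact hy
      have h23c := Cfsg.Agent.ZN.Block.card_sup_mul_card_inf hcomm23
      rw [h23, Subgroup.card_bot, mul_one, hc3] at h23c
      have h23le : P2 ⊔ P3 ≤ P1 := sup_le hP2P1 hP3P1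
      have h23P1 : P2 ⊔ P3 = P1 := by
        apply Subgroup.eq_of_le_of_card_ge h23le
        rw [h23c]; exact hcR'
      have hcP1 : Nat.card P1 = Nat.card P2 * Nat.card P2 := by rw [← h23P1, h23c]
      have hP2two : 2 ≤ Nat.card P2 := by
        have h1 : p0 * η j p0 ∈ P1 := (hP1 _).2 ⟨p0, hp0, rfl⟩
        have h2 : p0 * η j p0 ≠ 1 := by
          intro e
          apply hp0'
          calc η j p0 = p0 * p0 * η j p0 := by rw [h.sq p0 hp0, one_mul]
            _ = p0 * (p0 * η j p0) := by group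
            _ = p0 := by rw [e, mul_one]
        have h3 : 1 < Nat.card P1 := by
          rw [Subgroup.one_lt_card_iff_ne_bot]
          intro e
          rw [e, mem_bot] at h1
          exact h2 h1
        by_contra hcon
        have h4 : Nat.card P2 ≤ 1 := by omega
        have h5 : Nat.card P2 * Nat.card P2 ≤ 1 * 1 := Nat.mul_le_mul h4 h4
        omega
      -- induction
      have hβ2 : ∀ i ∈ K, ∀ p ∈ P2, β i p ∈ P2 := by
        rintro i hi p ⟨hp, hpf⟩
        refine ⟨hβ1 i hi p hp, ?_⟩
        change β j (β i p) = β i p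
        rw [h.βc j hjJ i (hKJ hi) p (hP1P hp), show β j p = p from hpf]
      have hη2 : ∀ i ∈ K, ∀ p ∈ P2, η i p ∈ P2 := by
        rintro i hi p ⟨hp, hpf⟩
        refine ⟨hη1 i hi p hp, ?_⟩
        change β j (η i p) = η i p
        rw [h.βη j hjJ i (hKJ hi) (hne i hi).symm p (hP1P hp), show β j p = p from hpf]
      have A0 := ih K P0 hKc (h.mono hKJ hP0P hβ0 hη0)
      have A2 := ih K P2 hKc (h.mono hKJ (hP2P1.trans hP1P) hβ2 hη2)
      -- fixed points
      have hfix : Nat.card ↥(P ⊓ fb β J) ≤ Nat.card ↥(P0 ⊓ fb β K) * Nat.card ↥(P2 ⊓ fb β K) := by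
        have hch : ∀ x : ↥(P ⊓ fb β J), ∃ y : ↥(P0 ⊓ fb β K) × ↥(P2 ⊓ fb β K), (x : Γ) = y.1 * y.2 := by
          rintro ⟨x, hx, hxf⟩
          obtain ⟨a, ha, b, hb, rfl⟩ := hdec x hx
          have hab : ∀ i ∈ J, β i a = a ∧ β i b = b := by
            intro i hi
            have h1 : β i (a * b) = a * b := hxf i hi
            rw [map_mul] at h1
            have h2 : β i a ∈ P0 := by
              by_cases hij : i = j
              · subst hij; exact hβj0 a ha
              · exact hβ0 i (Finset.mem_erase.2 ⟨hij, hi⟩) a ha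
            have h3 : β i b ∈ P1 := by
              by_cases hij : i = j
              · subst hij; exact hβj1 b hb
              · exact hβ1 i (Finset.mem_erase.2 ⟨hij, hi⟩) b hb
            have h4 : a⁻¹ * β i a = b * (β i b)⁻¹ := by
              rw [inv_mul_eq_iff_eq_mul, ← mul_assoc, eq_mul_inv_iff_mul_eq]
              exact h1
            have h5 : a⁻¹ * β i a ∈ P0 ⊓ P1 :=
              ⟨P0.mul_mem (P0.inv_mem ha) h2, by rw [h4]; exact P1.mul_mem hb (P1.inv_mem h3)⟩
            rw [h01, mem_bot] at h5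
            rw [h5] at h4
            exact ⟨(inv_mul_eq_one.1 h5).symm, (mul_inv_eq_one.1 h4.symm).symm⟩
          refine ⟨(⟨a, ha, fun i hi => (hab i (hKJ hi)).1⟩, ⟨b, ⟨hb, (hab j hjJ).2⟩,
            fun i hi => (hab i (hKJ hi)).2⟩), rfl⟩
        choose g hg using hch
        rw [← Nat.card_prod]
        refine Nat.card_le_card_of_injective g ?_
        intro x y hxy
        apply Subtype.ext
        rw [hg x, hg y, hxy]
      have hact : (act η J P).card ≤ 1 + (act η K P0).card + (act η K P2).card := by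
        have hsub : act η J P ⊆ insert j (act η K P0 ∪ act η K P2) := by
          intro i hi
          rw [mem_act] at hi
          by_cases hij : i = j
          · rw [hij]; exact Finset.mem_insert_self _ _
          apply Finset.mem_insert_of_mem
          rw [Finset.mem_union]
          by_contra hcon
          push Not at hcon
          have hiK : i ∈ K := Finset.mem_erase.2 ⟨hij, hi.1⟩
          have t0 : ∀ p ∈ P0, η i p = p := by
            intro p hp
            by_contra hne
            exact hcon.1 (mem_act.2 ⟨hiK, p, hp, hne⟩)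
          have t2 : ∀ p ∈ P2, η i p = p := by
            intro p hp
            by_contra hne
            exact hcon.2 (mem_act.2 ⟨hiK, p, hp, hne⟩)
          have t3 : P3 ≤ fx (η i) := by
            rintro _ ⟨x, hx, rfl⟩
            change η i (η j x) = η j x
            rw [h.ηη i hi.1 j hjJ x (hP1P (hP2P1 hx)), t2 x hx]
          have t1 : P1 ≤ fx (η i) := by
            rw [← h23P1]
            exact sup_le t2 t3
          have t : P ≤ fx (η i) := by
            rw [← hsup]
            exact sup_le t0 t1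
          obtain ⟨-, p, hp, hne⟩ := hi
          exact hne (t hp)
        calc (act η J P).card ≤ (insert j (act η K P0 ∪ act η K P2)).card := Finset.card_le_card hsub
          _ ≤ (act η K P0 ∪ act η K P2).card + 1 := Finset.card_insert_le _ _
          _ ≤ ((act η K P0).card + (act η K P2).card) + 1 := Nat.add_le_add_right (Finset.card_union_le _ _) 1
          _ = 1 + (act η K P0).card + (act η K P2).card := by ring
      have hstep : 2 ^ (act η J P).card * Nat.card ↥(P ⊓ fb β J) ≤ 2 * Nat.card P0 * Nat.card P2 := by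
        calc 2 ^ (act η J P).card * Nat.card ↥(P ⊓ fb β J)
            ≤ 2 ^ (1 + (act η K P0).card + (act η K P2).card) *
                (Nat.card ↥(P0 ⊓ fb β K) * Nat.card ↥(P2 ⊓ fb β K)) :=
              Nat.mul_le_mul (Nat.pow_le_pow_right (by norm_num) hact) hfix
          _ = 2 * (2 ^ (act η K P0).card * Nat.card ↥(P0 ⊓ fb β K)) *
                (2 ^ (act η K P2).card * Nat.card ↥(P2 ⊓ fb β K)) := by
              rw [pow_add, pow_add, pow_one]; ring
          _ ≤ 2 * Nat.card P0 * Nat.card P2 := by gcongr; exacts [A0.1, A2.1]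
      have hP : Nat.card P = Nat.card P0 * (Nat.card P2 * Nat.card P2) := by
        rw [← hcP1, hP0]; exact hc1.symm
      have hle : 2 * Nat.card P0 * Nat.card P2 ≤ Nat.card P := by
        rw [hP]
        calc 2 * Nat.card P0 * Nat.card P2 = Nat.card P0 * (2 * Nat.card P2) := by ring
          _ ≤ Nat.card P0 * (Nat.card P2 * Nat.card P2) := by gcongr
      refine ⟨hstep.trans hle, fun heq => ?_⟩
      have h1 : 2 * Nat.card P0 * Nat.card P2 = Nat.card P := le_antisymm hle (heq ▸ hstep)
      have h2 : Nat.card P2 = 2 := by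
        rw [hP] at h1
        have h3 : 0 < Nat.card P0 := Nat.card_pos
        have h4 : 0 < Nat.card P2 := Nat.card_pos
        have h5 : Nat.card P0 * Nat.card P2 * 2 = Nat.card P0 * Nat.card P2 * Nat.card P2 := by
          calc Nat.card P0 * Nat.card P2 * 2 = 2 * Nat.card P0 * Nat.card P2 := by ring
            _ = _ := by rw [h1]; ring
        exact (Nat.eq_of_mul_eq_mul_left (Nat.mul_pos h3 h4) h5).symm
      rw [hP, h2]
      ring
    by_cases hne : (act η J P).Nonempty
    · obtain ⟨j, hj⟩ := hne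
      exact ⟨(key j hj).1, fun heq i hi => (key i hi).2 heq⟩
    · rw [Finset.not_nonempty_iff_eq_empty] at hne
      rw [hne]
      refine ⟨?_, fun _ j hj => absurd hj (Finset.notMem_empty j)⟩
      rw [Finset.card_empty, pow_zero, one_mul]
      exact Nat.card_le_card_of_injective _ (Subgroup.inclusion_injective (inf_le_left : P ⊓ fb β J ≤ P))

end Cfsg.Agent.MinSimple.Omega.Sec
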